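import Mathlib.Topology.Irreducible
import Mathlib.Algebra.BigOperators.Group.List.Basic
import Mathlib.Algebra.Group.Subgroup.Basic
import Groth.Agent.Lib.GrpClass19.Abstract

/-!
# Bounded words have stable closure in a group with continuous translations
-/

set_option autoImplicit false

namespace GrothLib.GenWords19

open GrothLib.GrpClass19

variable {P : Type*} [Group P]

/-- Products of `n` elements of `S` and their inverses. -/
def words (S : Set P) (n : ℕ) : Set P :=
  {g | ∃ l : List P, l.length = n ∧ (∀ x ∈ l, x ∈ S ∨ x⁻¹ ∈ S) ∧ l.prod = g}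

theorem mul_mem_words {S : Set P} {n : ℕ} {g s : P} (hg : g ∈ words S n) (hs : s ∈ S ∨ s⁻¹ ∈ S) :
    g * s ∈ words S (n + 1) := by
  obtain ⟨l, hl, hS, rfl⟩ := hg
  refine ⟨l ++ [s], by simp [hl], fun x hx => ?_, by simp⟩
  rcases List.mem_append.1 hx with h | h
  · exact hS x h
  · rw [List.mem_singleton.1 h]
    exact hs

variable [TopologicalSpace P]

/-- Elements mapping `B` into the closure of `B` from both sides form a subgroup. -/
def stab (B : Set P) (hr : ∀ g : P, Continuous fun h => h * g) : Subgroup P where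
  carrier := {g | (∀ b ∈ B, b * g ∈ closure B) ∧ ∀ b ∈ B, b * g⁻¹ ∈ closure B}
  one_mem' := ⟨fun b hb => by simpa using subset_closure hb, fun b hb => by simpa using subset_closure hb⟩
  inv_mem' {g} hg := ⟨hg.2, by simpa using hg.1⟩
  mul_mem' {g h} hg hh := by
    have key : ∀ x y : P, (∀ b ∈ B, b * x ∈ closure B) → (∀ b ∈ B, b * y ∈ closure B) →
        ∀ b ∈ B, b * (x * y) ∈ closure B := by
      intro x y hx hy b hb
      have := map_mem_closure (hr y) (hx b hb) hy
      rw [closure_closure] at this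
      rwa [← mul_assoc]
    exact ⟨key g h hg.1 hh.1, fun b hb => by rw [mul_inv_rev]; exact key _ _ hh.2 hg.2 b hb⟩

/-- The closures of the sets of words of bounded length are bounded by one of them. -/
theorem exists_words_dense (hl : ∀ g : P, Continuous fun h => g * h)
    (hr : ∀ g : P, Continuous fun h => h * g) (S : Set P) {ι : Type*} (pieces : ι → Set P)
    (hirr : ∀ i, IsPreirreducible (pieces i)) (hsub : ∀ i, pieces i ⊆ S)
    (hcov : ∀ s ∈ S, ∃ i, s ∈ pieces i) (i0 : ι) (h1 : (1 : P) ∈ pieces i0)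
    (hconn : ∀ T : ι → Prop, T i0 → (∀ i j, T i → (pieces i ∩ pieces j).Nonempty → T j) → ∀ i, T i)
    (hmax : ∀ 𝓑 : Set (Set P), 𝓑.Nonempty → (∀ B ∈ 𝓑, IsPreirreducible B ∧ (1 : P) ∈ closure B) →
      ∃ B ∈ 𝓑, ∀ B' ∈ 𝓑, closure B ⊆ closure B' → closure B' ⊆ closure B) :
    ∃ N, ∀ m, words S m ⊆ closure (words S N) := by
  obtain ⟨B, ⟨hB, hB1, n, hBn⟩, hBmax⟩ := hmax
    {B | IsPreirreducible B ∧ (1 : P) ∈ closure B ∧ ∃ n, B ⊆ words S n}
    ⟨{1}, isPreirreducible_singleton, subset_closure rfl, 0, fun g hg => ⟨[], rfl, by simp, by simpa using (Eq.symm (Set.mem_singleton_iff.1 hg))⟩⟩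
    (fun B' h => ⟨h.1, h.2.1⟩)
  -- right translates of `B` inside its closure contain it
  have htr : ∀ g : P, (∀ b ∈ B, b * g ∈ closure B) → B ⊆ closure ((fun b => b * g⁻¹) '' B) := by
    intro g hg b hb
    have := map_mem_closure (hr g⁻¹) (hg b hb) (t := (fun b => b * g⁻¹) '' B) fun c hc => ⟨c, hc, rfl⟩
    simpa using this
  have hle : ∀ B' : Set P, IsPreirreducible B' → B ⊆ closure B' → B' ⊆ words S (n + 1) → B' ⊆ closure B :=
    fun B' h hsup hw => subset_closure.trans (hBmax B' ⟨h, closure_minimal hsup isClosed_closure hB1, n + 1, hw⟩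
      (closure_minimal hsup isClosed_closure))
  have hstep : ∀ i, ∀ s ∈ pieces i, s ∈ stab B hr → ∀ t ∈ pieces i, t ∈ stab B hr := by
    intro i s hs hst t ht
    have h' := hle (Set.image2 (fun a c => a * c) B (pieces i)) (isPreirreducible_image2 hB (hirr i) hl hr)
      (fun b hb => by
        have := map_mem_closure (hr s) (hst.2 b hb) (t := Set.image2 (fun a c => a * c) B (pieces i))
          fun c hc => ⟨c, hc, s, hs, rfl⟩
        simpa using this)
      (Set.image2_subset_iff.2 fun a ha c hc => mul_mem_words (hBn ha) (Or.inl (hsub i hc)))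
    have htle : ∀ b ∈ B, b * t ∈ closure B := fun b hb => h' ⟨b, hb, t, ht, rfl⟩
    have h'' := hle _ (hB.image (fun b => b * t⁻¹) (hr t⁻¹).continuousOn) (htr t htle)
      (by rintro _ ⟨b, hb, rfl⟩; exact mul_mem_words (hBn hb) (Or.inr (by simpa using hsub i ht)))
    exact ⟨htle, fun b hb => h'' ⟨b, hb, rfl⟩⟩
  have hall : ∀ i, ∀ t ∈ pieces i, t ∈ stab B hr :=
    hconn (fun i => ∀ t ∈ pieces i, t ∈ stab B hr) (hstep i0 1 h1 (one_mem _))
      (fun i j hi ⟨s, hsi, hsj⟩ => hstep j s hsj (hi s hsi))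
  refine ⟨n, fun m g hg => ?_⟩
  obtain ⟨l, -, hS, rfl⟩ := hg
  have hmem : l.prod ∈ stab B hr := list_prod_mem fun x hx => by
    rcases hS x hx with h | h
    · obtain ⟨i, hi⟩ := hcov x h
      exact hall i x hi
    · obtain ⟨i, hi⟩ := hcov _ h
      exact inv_inv x ▸ inv_mem (hall i _ hi)
  have h2 := map_mem_closure (hr l.prod) hB1 hmem.1
  rw [closure_closure, one_mul] at h2
  exact closure_mono hBn h2

end GrothLib.GenWords19
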