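import Mathlib.GroupTheory.Schreier
import Mathlib.GroupTheory.Commutator.Finite
import Mathlib.GroupTheory.Finiteness
import Mathlib.GroupTheory.Torsion
import Mathlib.GroupTheory.FiniteAbelian.Basic
import Mathlib.GroupTheory.GroupAction.ConjAct
import Mathlib.GroupTheory.Index

/-!
# Baer's theorem: finitely many commutators of two normal subgroups generate a finite group
-/

set_option autoImplicit false
set_option linter.style.haveILetI false

open scoped commutatorElement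

namespace GrothLib.GenWords19

variable {Q : Type*} [Group Q]

/-- The abelian case. -/
theorem finite_commutator_of_comm (A B : Subgroup Q) [A.Normal] [B.Normal]
    (hfin : {g | ∃ a ∈ A, ∃ b ∈ B, ⁅a, b⁆ = g}.Finite)
    (hA : ∀ a ∈ A, ∃ m, 0 < m ∧ ∀ b ∈ B, Commute (a ^ m) b)
    (hB : ∀ b ∈ B, ∃ m, 0 < m ∧ ∀ a ∈ A, Commute a (b ^ m))
    (hcomm : ∀ x ∈ ⁅A, B⁆, ∀ y ∈ ⁅A, B⁆, Commute x y) : ((⁅A, B⁆ : Subgroup Q) : Set Q).Finite := by
  have hDA : ⁅A, B⁆ ≤ A := Subgroup.commutator_le_left A B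
  have hDB : ⁅A, B⁆ ≤ B := Subgroup.commutator_le_right A B
  -- conjugation by elements of `A` or `B` is trivial modulo torsion
  have hpow : ∀ x ∈ ⁅A, B⁆, ∀ y : Q, ∀ n : ℕ, ⁅x ^ n, y⁆ = ⁅x, y⁆ ^ n := by
    intro x hx y n
    induction n with
    | zero => simp [commutatorElement_def]
    | succ n ih =>
      have h1 : ⁅x, y⁆ ∈ ⁅A, B⁆ := by
        rw [commutatorElement_def, mul_assoc x, mul_assoc x]
        exact mul_mem hx (Subgroup.Normal.conj_mem inferInstance _ (inv_mem hx) y)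
      have e : ⁅x ^ (n + 1), y⁆ = (x * ⁅x ^ n, y⁆ * x⁻¹) * ⁅x, y⁆ := by
        rw [pow_succ']
        simp only [commutatorElement_def]
        group
      rw [e, ih, (hcomm x hx _ (pow_mem h1 n)).eq, mul_assoc (⁅x, y⁆ ^ n), mul_inv_cancel, mul_one, pow_succ]
  have htor : ∀ x ∈ ⁅A, B⁆, ∀ y, (y ∈ A ∨ y ∈ B) → IsOfFinOrder ⁅x, y⁆ := by
    intro x hx y hy
    obtain ⟨m, hm, hm'⟩ : ∃ m, 0 < m ∧ Commute (x ^ m) y := by
      rcases hy with hy | hy
      · obtain ⟨m, hm, h⟩ := hB x (hDB hx); exact ⟨m, hm, (h y hy).symm⟩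
      · obtain ⟨m, hm, h⟩ := hA x (hDA hx); exact ⟨m, hm, h y hy⟩
    refine isOfFinOrder_iff_pow_eq_one.2 ⟨m, hm, ?_⟩
    rw [← hpow x hx y m, commutatorElement_eq_one_iff_commute.2 hm']
  have hgen : ∀ a ∈ A, ∀ b ∈ B, IsOfFinOrder ⁅a, b⁆ := by
    intro a ha b hb
    have key : ∀ i : ℕ, ∃ t ∈ ⁅A, B⁆, IsOfFinOrder t ∧ ⁅a, b ^ i⁆ = ⁅a, b⁆ ^ i * t := by
      intro i
      induction i with
      | zero => exact ⟨1, one_mem _, IsOfFinOrder.one, by simp [commutatorElement_def]⟩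
      | succ i ih =>
        obtain ⟨t, ht, htf, he⟩ := ih
        have hz : ⁅a, b ^ i⁆ ∈ ⁅A, B⁆ := Subgroup.commutator_mem_commutator ha (pow_mem hb i)
        have hc : ⁅⁅a, b ^ i⁆, b⁆⁻¹ ∈ ⁅A, B⁆ := by
          refine inv_mem ?_
          rw [commutatorElement_def, mul_assoc ⁅a, b ^ i⁆, mul_assoc ⁅a, b ^ i⁆]
          exact mul_mem hz (Subgroup.Normal.conj_mem inferInstance _ (inv_mem hz) b)
        have hab : ⁅a, b⁆ ∈ ⁅A, B⁆ := Subgroup.commutator_mem_commutator ha hb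
        refine ⟨t * ⁅⁅a, b ^ i⁆, b⁆⁻¹, mul_mem ht hc,
          (hcomm t ht _ hc).isOfFinOrder_mul htf (htor _ hz b (Or.inr hb)).inv, ?_⟩
        have e : ⁅a, b ^ (i + 1)⁆ = ⁅a, b⁆ * (⁅⁅a, b ^ i⁆, b⁆⁻¹ * ⁅a, b ^ i⁆) := by
          rw [pow_succ']
          simp only [commutatorElement_def]
          group
        rw [e, (hcomm _ hc _ hz).eq, he, pow_succ']
        group
    obtain ⟨m, hm, hm'⟩ := hB b hb
    obtain ⟨t, ht, htf, he⟩ := key m
    rw [commutatorElement_eq_one_iff_commute.2 (hm' a ha)] at he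
    have : IsOfFinOrder (⁅a, b⁆ ^ m) := by
      rw [eq_inv_of_mul_eq_one_left he.symm]
      exact htf.inv
    exact this.of_pow hm.ne'
  have hall : ∀ x ∈ ⁅A, B⁆, IsOfFinOrder x := by
    have : ⁅A, B⁆ ≤ Subgroup.closure {g | ∃ a ∈ A, ∃ b ∈ B, ⁅a, b⁆ = g} := (Subgroup.commutator_def A B).le
    intro x hx
    have hx' : x ∈ Subgroup.closure {g | ∃ a ∈ A, ∃ b ∈ B, ⁅a, b⁆ = g} := this hx
    clear hx
    induction hx' using Subgroup.closure_induction with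
    | mem x hx => obtain ⟨a, ha, b, hb, rfl⟩ := hx; exact hgen a ha b hb
    | one => exact IsOfFinOrder.one
    | mul x y hx' hy' ihx ihy =>
      have hxD : x ∈ ⁅A, B⁆ := by rw [Subgroup.commutator_def]; exact hx'
      have hyD : y ∈ ⁅A, B⁆ := by rw [Subgroup.commutator_def]; exact hy'
      exact (hcomm x hxD y hyD).isOfFinOrder_mul ihx ihy
    | inv x hx' ih => exact ih.inv
  letI : CommGroup ↥(⁅A, B⁆) :=
    { (inferInstance : Group ↥(⁅A, B⁆)) with mul_comm := fun x y => Subtype.ext (hcomm x x.2 y y.2) }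
  haveI : Group.FG ↥(⁅A, B⁆) := (Group.fg_iff_subgroup_fg _).2 <| by
    obtain ⟨s, hs⟩ : ∃ s : Finset Q, (s : Set Q) = {g | ∃ a ∈ A, ∃ b ∈ B, ⁅a, b⁆ = g} :=
      ⟨hfin.toFinset, hfin.coe_toFinset⟩
    exact ⟨s, by rw [hs, Subgroup.commutator_def]⟩
  haveI : Finite ↥(⁅A, B⁆) := CommGroup.finite_of_fg_isMulTorsion _ fun x => Submonoid.isOfFinOrder_coe.1 (hall x x.2)
  exact Set.toFinite _

/-- Baer's theorem, in the form needed here. -/
theorem finite_commutator (A B : Subgroup Q) [A.Normal] [B.Normal]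
    (hfin : {g | ∃ a ∈ A, ∃ b ∈ B, ⁅a, b⁆ = g}.Finite)
    (hA : ∀ a ∈ A, ∃ m, 0 < m ∧ ∀ b ∈ B, Commute (a ^ m) b)
    (hB : ∀ b ∈ B, ∃ m, 0 < m ∧ ∀ a ∈ A, Commute a (b ^ m)) :
    ((⁅A, B⁆ : Subgroup Q) : Set Q).Finite := by
  classical
  let D := ⁅A, B⁆
  let S := {g | ∃ a ∈ A, ∃ b ∈ B, ⁅a, b⁆ = g}
  have hS : ∀ d : D, ∀ s ∈ S, (d : Q) * s * (d : Q)⁻¹ ∈ S := by
    rintro d _ ⟨a, ha, b, hb, rfl⟩
    refine ⟨(d : Q) * a * (d : Q)⁻¹, Subgroup.Normal.conj_mem inferInstance a ha d, (d : Q) * b * (d : Q)⁻¹,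
      Subgroup.Normal.conj_mem inferInstance b hb d, ?_⟩
    simp only [commutatorElement_def]
    group
  haveI : Finite S := hfin.to_subtype
  let φ : D → (S → S) := fun d s => ⟨(d : Q) * s * (d : Q)⁻¹, hS d s s.2⟩
  have hφ : ∀ d e : D, φ d = φ e → ∀ x : D, ((e⁻¹ * d : D) : Q) * x = x * ((e⁻¹ * d : D) : Q) := by
    intro d e h x
    have hx : (x : Q) ∈ Subgroup.closure S := (Subgroup.commutator_def A B).le x.2
    suffices hle : Subgroup.closure S ≤ Subgroup.centralizer {((e⁻¹ * d : D) : Q)} from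
      Subgroup.mem_centralizer_iff.1 (hle hx) _ rfl
    refine (Subgroup.closure_le _).2 fun s hs => Subgroup.mem_centralizer_iff.2 fun y hy => ?_
    rw [Set.mem_singleton_iff.1 hy, Subgroup.coe_mul, Subgroup.coe_inv]
    have h' : (d : Q) * s * (d : Q)⁻¹ = (e : Q) * s * (e : Q)⁻¹ := congrArg Subtype.val (congrFun h ⟨s, hs⟩)
    calc (e : Q)⁻¹ * d * s = (e : Q)⁻¹ * ((d : Q) * s * (d : Q)⁻¹) * d := by group
      _ = (e : Q)⁻¹ * ((e : Q) * s * (e : Q)⁻¹) * d := by rw [h']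
      _ = s * ((e : Q)⁻¹ * d) := by group
  haveI : Finite (Set.range φ) := Set.toFinite _
  haveI : Finite (commutatorSet D) := by
    let r : Set.range φ → D := fun v => v.2.choose
    have hr : ∀ d : D, φ (r ⟨φ d, d, rfl⟩) = φ d := fun d => (⟨φ d, d, rfl⟩ : Set.range φ).2.choose_spec
    refine (Set.Finite.subset (Set.finite_range fun v : Set.range φ × Set.range φ => ⁅r v.1, r v.2⁆) ?_).to_subtype
    rintro _ ⟨x, y, rfl⟩
    refine ⟨(⟨φ x, x, rfl⟩, ⟨φ y, y, rfl⟩), ?_⟩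
    simp only
    obtain ⟨c, hc, hxe⟩ : ∃ c : D, (∀ z : D, c * z = z * c) ∧ x = r ⟨φ x, x, rfl⟩ * c :=
      ⟨(r ⟨φ x, x, rfl⟩)⁻¹ * x, fun z => Subtype.ext (hφ x _ (hr x).symm z), (mul_inv_cancel_left _ _).symm⟩
    obtain ⟨c', hc', hye⟩ : ∃ c : D, (∀ z : D, c * z = z * c) ∧ y = r ⟨φ y, y, rfl⟩ * c :=
      ⟨(r ⟨φ y, y, rfl⟩)⁻¹ * y, fun z => Subtype.ext (hφ y _ (hr y).symm z), (mul_inv_cancel_left _ _).symm⟩
    generalize r ⟨φ x, x, rfl⟩ = x' at hxe ⊢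
    generalize r ⟨φ y, y, rfl⟩ = y' at hye ⊢
    have h1 : ⁅x' * c, y' * c'⁆ = x' * (c * (y' * c')) * c⁻¹ * x'⁻¹ * (y' * c')⁻¹ := by
      simp only [commutatorElement_def]; group
    rw [hxe, hye, h1, hc (y' * c')]
    have h2 : x' * (y' * c' * c) * c⁻¹ * x'⁻¹ * (y' * c')⁻¹ = x' * y' * (c' * x'⁻¹) * c'⁻¹ * y'⁻¹ := by group
    rw [h2, hc' x'⁻¹]
    simp only [commutatorElement_def]
    group
  have hDD : ((⁅D, D⁆ : Subgroup Q) : Set Q).Finite := by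
    rw [← D.map_subtype_commutator, Subgroup.coe_map]
    exact (Set.finite_coe_iff.1 (inferInstanceAs (Finite (_root_.commutator D)))).image _
  haveI : D.Normal := inferInstanceAs (⁅A, B⁆).Normal
  let π := QuotientGroup.mk' ⁅D, D⁆
  haveI : (A.map π).Normal := Subgroup.Normal.map inferInstance π (QuotientGroup.mk'_surjective _)
  haveI : (B.map π).Normal := Subgroup.Normal.map inferInstance π (QuotientGroup.mk'_surjective _)
  have hfin' : ((⁅A.map π, B.map π⁆ : Subgroup _) : Set (Q ⧸ ⁅D, D⁆)).Finite := by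
    refine finite_commutator_of_comm _ _ ((hfin.image π).subset ?_) ?_ ?_ ?_
    · rintro _ ⟨_, ⟨a, ha, rfl⟩, _, ⟨b, hb, rfl⟩, rfl⟩
      exact ⟨_, ⟨a, ha, b, hb, rfl⟩, map_commutatorElement π a b⟩
    · rintro _ ⟨a, ha, rfl⟩
      obtain ⟨m, hm, h⟩ := hA a ha
      refine ⟨m, hm, ?_⟩
      rintro _ ⟨b, hb, rfl⟩
      rw [← map_pow]
      exact (h b hb).map π
    · rintro _ ⟨b, hb, rfl⟩
      obtain ⟨m, hm, h⟩ := hB b hb
      refine ⟨m, hm, ?_⟩
      rintro _ ⟨a, ha, rfl⟩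
      rw [← map_pow]
      exact (h a ha).map π
    · intro x hx y hy
      rw [← Subgroup.map_commutator] at hx hy
      obtain ⟨d, hd, rfl⟩ := hx
      obtain ⟨e, he, rfl⟩ := hy
      rw [← commutatorElement_eq_one_iff_commute, ← map_commutatorElement]
      exact (QuotientGroup.eq_one_iff _).2 (Subgroup.commutator_mem_commutator hd he)
  rw [← Subgroup.map_commutator, Subgroup.coe_map] at hfin'
  refine ((hfin'.prod hDD).image fun v : (Q ⧸ ⁅D, D⁆) × Q => v.1.out * v.2).subset fun g hg => ?_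
  refine ⟨(π g, (π g).out⁻¹ * g), ⟨⟨g, hg, rfl⟩, ?_⟩, mul_inv_cancel_left _ _⟩
  exact QuotientGroup.eq.1 (QuotientGroup.out_eq' (π g))

end GrothLib.GenWords19
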