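import Groth.Agent.Lib.GenWords19.FiniteIndex
import Groth.Agent.Lib.GenWords19.Baer
import Groth.Agent.Lib.GrpSchField.Components
import Groth.Agent.Lib.Homog14.Sweep

/-!
# Rational points of the commutator subgroup
-/

set_option autoImplicit false
set_option backward.isDefEq.respectTransparency false
set_option linter.style.haveILetI false

universe u

open CategoryTheory CategoryTheory.Limits MonoidalCategory CartesianMonoidalCategory MonObj GrpObj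
open AlgebraicGeometry Topology
open scoped commutatorElement

noncomputable section

namespace GrothLib.GenWords19

open GenSubgrp14

variable {k : Type u} [Field k] {G A B : Over (Spec (CommRingCat.of k))} [GrpObj G] [GrpObj A] [GrpObj B]

theorem words_add {P : Type*} [Group P] {S : Set P} {m n : ℕ} {g h : P} (hg : g ∈ words S m) (hh : h ∈ words S n) :
    g * h ∈ words S (m + n) := by
  obtain ⟨l, hl, hS, rfl⟩ := hg
  obtain ⟨l', hl', hS', rfl⟩ := hh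
  exact ⟨l ++ l', by simp [hl, hl'], fun x hx => (List.mem_append.1 hx).elim (hS x) (hS' x), List.prod_append⟩

theorem words_le {P : Type*} [Group P] {S : Set P} (h1 : (1 : P) ∈ S) {m n : ℕ} (h : m ≤ n) :
    words S m ⊆ words S n := by
  intro g hg
  obtain ⟨d, rfl⟩ := Nat.exists_eq_add_of_le h
  have : (1 : P) ∈ words S d := ⟨List.replicate d 1, List.length_replicate .., fun x hx => Or.inl
    (List.eq_of_mem_replicate hx ▸ h1), by simp⟩
  simpa using words_add hg this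

theorem mem_words_of_mem_closure {P : Type*} [Group P] {S : Set P} {g : P} (hg : g ∈ Subgroup.closure S) :
    ∃ m, g ∈ words S m := by
  induction hg using Subgroup.closure_induction with
  | mem x hx => exact ⟨1, [x], rfl, by simp [hx], by simp⟩
  | one => exact ⟨0, [], rfl, by simp, rfl⟩
  | mul x y _ _ hx hy =>
    obtain ⟨m, hm⟩ := hx
    obtain ⟨n, hn⟩ := hy
    exact ⟨m + n, words_add hm hn⟩
  | inv x _ hx =>
    obtain ⟨m, l, hl, hS, rfl⟩ := hx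
    refine ⟨m, l.reverse.map fun y => y⁻¹, by simp [hl], fun y hy => ?_, ?_⟩
    · obtain ⟨z, hz, rfl⟩ := List.mem_map.1 hy
      rcases hS z (List.mem_reverse.1 hz) with h | h
      · exact Or.inr (by rwa [_root_.inv_inv])
      · exact Or.inl h
    · rw [List.prod_inv_reverse, List.map_reverse]

theorem words_le_closure {P : Type*} [Group P] (S : Set P) (m : ℕ) : words S m ⊆ Subgroup.closure S := by
  rintro _ ⟨l, -, hS, rfl⟩
  exact list_prod_mem fun x hx => (hS x hx).elim (fun h => Subgroup.subset_closure h)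
    fun h => inv_inv x ▸ inv_mem (Subgroup.subset_closure h)

theorem commutator_mul_eq {P : Type*} [Group P] {p q e e' : P} (h1 : Commute e q) (h2 : Commute p e')
    (h3 : Commute e e') : ⁅p * e, q * e'⁆ = ⁅p, q⁆ := by
  simp only [commutatorElement_def]
  calc p * e * (q * e') * (p * e)⁻¹ * (q * e')⁻¹ = p * (e * (q * e') * e⁻¹) * (p⁻¹ * e'⁻¹) * q⁻¹ := by group
    _ = p * (q * e') * (p⁻¹ * e'⁻¹) * q⁻¹ := by rw [(h1.mul_right h3).eq, mul_inv_cancel_right]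
    _ = p * q * p⁻¹ * q⁻¹ := by rw [h2.inv_inv.eq]; group

variable [IsAlgClosed k] [LocallyOfFiniteType G.hom]

local notation "𝔻" => 𝟙_ (Over (Spec (CommRingCat.of k)))

/-- Bounded words in a family of rational points covered by irreducible pieces through the unit. -/
theorem exists_dense_of_unit_pieces (S : Set (𝔻 ⟶ G)) {κ : Type*} [Nonempty κ] (pieces : κ → Set (𝔻 ⟶ G))
    (hirr : ∀ i, IsPreirreducible (kpt '' pieces i)) (h1 : ∀ i, (1 : 𝔻 ⟶ G) ∈ pieces i)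
    (hsub : ∀ i, pieces i ⊆ S) (hcov : ∀ u ∈ S, ∃ i, u ∈ pieces i) :
    ∃ N, ∀ m, kpt '' words S m ⊆ closure (kpt '' words S N) := by
  let s : Spec (CommRingCat.of k) ⟶ Spec (CommRingCat.of k) := 𝟙 _
  haveI : IsIso (pullback.fst G.hom s) := inferInstance
  have hloc : ∀ i, IsPreirreducible (loc s '' pieces i) := by
    intro i
    have h := (hirr i).image (inv (pullback.fst G.hom s)).base (Scheme.Hom.continuous _).continuousOn
    rw [Set.image_image] at h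
    convert h using 2
    rename_i u _
    show loc s u = _
    rw [show kpt u = (pullback.fst G.hom s).base (loc s u) from (fst_loc s u).symm, ← Scheme.Hom.comp_apply,
      IsIso.hom_inv_id]
    rfl
  obtain ⟨N, hN⟩ := exists_dense_of_pieces (G := G) s S pieces hloc hsub hcov (Classical.arbitrary κ)
    (h1 _) (fun T hT hstep j => hstep _ j hT ⟨1, h1 _, h1 j⟩)
  refine ⟨N, fun m => ?_⟩
  rintro _ ⟨u, hu, rfl⟩
  exact hN m u hu

/-- The rational points of finitely many irreducible pieces through the unit exhaust a group. -/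
theorem exists_near (A : Over (Spec (CommRingCat.of k))) [GrpObj A] [LocallyOfFiniteType A.hom]
    [QuasiCompact A.hom] :
    ∃ (κ : Type u) (_ : Finite κ) (r : κ → (𝔻 ⟶ A)) (Z : κ → Set (𝔻 ⟶ A)),
      (∀ i, IsPreirreducible (kpt '' Z i)) ∧ (∀ i, r i ∈ Z i) ∧ ∀ x, ∃ i, x ∈ Z i := by
  haveI : JacobsonSpace A.left := LocallyOfFiniteType.jacobsonSpace (Y := Spec _) A.hom
  haveI : IsLocallyNoetherian A.left := LocallyOfFiniteType.isLocallyNoetherian (Y := Spec _) A.hom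
  haveI : CompactSpace A.left := QuasiCompact.compactSpace_of_compactSpace A.hom
  haveI : AlgebraicGeometry.IsNoetherian A.left := {}
  let C := irreducibleComponents A.left
  haveI : Finite C := TopologicalSpace.NoetherianSpace.finite_irreducibleComponents.to_subtype
  have hex : ∀ W : Set A.left, IsLocallyClosed W → W.Nonempty → ∃ t : 𝔻 ⟶ A, kpt t ∈ W := by
    intro W hW hne
    obtain ⟨q, hq, hqc⟩ := nonempty_inter_closedPoints hne hW
    obtain ⟨t, rfl⟩ : q ∈ Set.range (GrothLib.GrpClass19.ptLoc (K := k) (H := A)) := by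
      rw [GrothLib.GrpClass19.range_ptLoc]
      exact hqc
    exact ⟨t, hq⟩
  choose r hr using fun Z : C => hex Z.1 (isClosed_of_mem_irreducibleComponents _ Z.2).isLocallyClosed Z.2.1.nonempty
  refine ⟨C, inferInstance, r, fun Z => kpt ⁻¹' Z.1, fun Z => ?_, hr,
    fun x => ⟨⟨_, irreducibleComponent_mem_irreducibleComponents _⟩, mem_irreducibleComponent⟩⟩
  intro U V hU hV ⟨_, ⟨a, haZ, rfl⟩, haU⟩ ⟨_, ⟨b, hbZ, rfl⟩, hbV⟩
  obtain ⟨z, hz⟩ := Z.2.1.2 U V hU hV ⟨_, haZ, haU⟩ ⟨_, hbZ, hbV⟩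
  obtain ⟨t, ht⟩ := hex (Z.1 ∩ (U ∩ V))
    ((isClosed_of_mem_irreducibleComponents _ Z.2).isLocallyClosed.inter (hU.inter hV).isLocallyClosed) ⟨z, hz⟩
  exact ⟨kpt t, ⟨t, ht.1, rfl⟩, ht.2⟩

omit [GrpObj A] [LocallyOfFiniteType G.hom] [IsAlgClosed k] in
theorem isPreirreducible_image_comp {H : Over (Spec (CommRingCat.of k))} (Z : Set (𝔻 ⟶ A))
    (hZ : IsPreirreducible (kpt '' Z)) (φ : A ⟶ H) (F : (𝔻 ⟶ A) → (𝔻 ⟶ H)) (hF : ∀ x, F x = x ≫ φ) :
    IsPreirreducible (kpt '' (F '' Z)) := by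
  have h := hZ.image φ.left.base φ.left.continuous.continuousOn
  rw [Set.image_image] at h ⊢
  convert h using 2
  rw [hF, kpt_comp]

omit [GrpObj G] [GrpObj A] [LocallyOfFiniteType G.hom] [IsAlgClosed k] in
theorem exists_hom_const (z : 𝔻 ⟶ G) : ∃ φ : A ⟶ G, ∀ x : 𝔻 ⟶ A, x ≫ φ = z :=
  ⟨toUnit A ≫ z, fun x => by rw [← Category.assoc, toUnit_unique (x ≫ toUnit A) (𝟙 _), Category.id_comp]⟩

variable (a : A ⟶ G) [IsMonHom a] (b : B ⟶ G) [IsMonHom b]

/-- The commutator map. -/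
abbrev commMap : A ⊗ B ⟶ G :=
  (fst A B ≫ a) * (snd A B ≫ b) * (fst A B ≫ a)⁻¹ * (snd A B ≫ b)⁻¹

/-- The commutators of rational points. -/
abbrev commSet : Set (𝔻 ⟶ G) := Set.range fun x : 𝔻 ⟶ A ⊗ B => x ≫ commMap a b

omit [GrpObj A] [GrpObj B] [IsMonHom a] [IsMonHom b] [LocallyOfFiniteType G.hom] [IsAlgClosed k] in
theorem comp_commMap (x : 𝔻 ⟶ A) (y : 𝔻 ⟶ B) : lift x y ≫ commMap a b = ⁅x ≫ a, y ≫ b⁆ := by
  simp only [MonObj.comp_mul, GrpObj.comp_inv, lift_fst_assoc, lift_snd_assoc, commutatorElement_def]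

omit [GrpObj A] [GrpObj B] [IsMonHom a] [IsMonHom b] [LocallyOfFiniteType G.hom] [IsAlgClosed k] in
theorem mem_commSet {u : 𝔻 ⟶ G} : u ∈ commSet a b ↔ ∃ (x : 𝔻 ⟶ A) (y : 𝔻 ⟶ B), ⁅x ≫ a, y ≫ b⁆ = u := by
  constructor
  · rintro ⟨t, rfl⟩
    refine ⟨t ≫ fst A B, t ≫ snd A B, ?_⟩
    rw [← comp_commMap a b]
    show lift (t ≫ fst A B) (t ≫ snd A B) ≫ commMap a b = t ≫ commMap a b
    rw [← comp_lift, lift_fst_snd, Category.comp_id]
  · rintro ⟨x, y, rfl⟩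
    exact ⟨lift x y, comp_commMap a b x y⟩

/-- The subgroup of rational points of a subgroup. -/
abbrev ptsHom : (𝔻 ⟶ A) →* (𝔻 ⟶ G) := MonoidHom.mk' (fun x => x ≫ a) fun x y => MonObj.mul_comp x y a

theorem exists_bound_connected [LocallyOfFiniteType A.hom] [QuasiCompact A.hom] [IrreducibleSpace A.left] :
    ∃ N, ∀ m, kpt '' words (commSet a b) m ⊆ closure (kpt '' words (commSet a b) N) := by
  haveI : JacobsonSpace A.left := LocallyOfFiniteType.jacobsonSpace (Y := Spec _) A.hom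
  have hA : IsPreirreducible (kpt '' (Set.univ : Set (𝔻 ⟶ A))) := by
    intro U V hU hV ⟨u, _, huU⟩ ⟨v, _, hvV⟩
    obtain ⟨z, hz⟩ := nonempty_preirreducible_inter hU hV ⟨u, huU⟩ ⟨v, hvV⟩
    obtain ⟨q, hq, hqc⟩ := nonempty_inter_closedPoints (Z := U ∩ V) ⟨z, hz⟩ (hU.inter hV).isLocallyClosed
    obtain ⟨t, rfl⟩ : q ∈ Set.range (GrothLib.GrpClass19.ptLoc (K := k) (H := A)) := by
      rw [GrothLib.GrpClass19.range_ptLoc]
      exact hqc
    exact ⟨_, ⟨t, trivial, rfl⟩, hq⟩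
  haveI : Nonempty (𝔻 ⟶ B) := ⟨1⟩
  refine exists_dense_of_unit_pieces (commSet a b)
    (fun y : 𝔻 ⟶ B => (fun x : 𝔻 ⟶ A => ⁅x ≫ a, y ≫ b⁆) '' Set.univ) (fun y => ?_)
    (fun y => ⟨1, trivial, by simp [MonObj.one_comp]⟩) (fun y u ⟨x, _, hx⟩ => (mem_commSet a b).2 ⟨x, y, hx⟩)
    (fun u hu => by obtain ⟨x, y, h⟩ := (mem_commSet a b).1 hu; exact ⟨y, x, trivial, h⟩)
  obtain ⟨ψ, hψ⟩ := exists_hom_const (A := A) (y ≫ b)
  exact isPreirreducible_image_comp _ hA (a * ψ * a⁻¹ * ψ⁻¹) _ fun x => by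
    simp only [MonObj.comp_mul, GrpObj.comp_inv, hψ, commutatorElement_def]

theorem exists_bound_normal [LocallyOfFiniteType A.hom] [QuasiCompact A.hom] [LocallyOfFiniteType B.hom]
    [QuasiCompact B.hom] (ha : AlgGrp.IsNormalHom a) (hb : AlgGrp.IsNormalHom b) :
    ∃ N, ∀ m, kpt '' words (commSet a b) m ⊆ closure (kpt '' words (commSet a b) N) := by
  classical
  let P := 𝔻 ⟶ G
  let Ā : Subgroup P := (ptsHom a).range
  let B' : Subgroup P := (ptsHom b).range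
  haveI : Ā.Normal := ⟨fun n ⟨x, hx⟩ g => by
    obtain ⟨x', hx'⟩ := ha _ g x
    exact ⟨x', by subst hx; exact hx'.symm⟩⟩
  haveI : B'.Normal := ⟨fun n ⟨x, hx⟩ g => by
    obtain ⟨x', hx'⟩ := hb _ g x
    exact ⟨x', by subst hx; exact hx'.symm⟩⟩
  obtain ⟨κ, _, r, Z, hZirr, hrZ, hZcov⟩ := exists_near A
  obtain ⟨κ', _, r', Z', hZirr', hrZ', hZcov'⟩ := exists_near B
  have hmemA : ∀ {u : P}, u ∈ Ā ↔ ∃ x : 𝔻 ⟶ A, x ≫ a = u := Iff.rfl
  have hmemB : ∀ {u : P}, u ∈ B' ↔ ∃ x : 𝔻 ⟶ B, x ≫ b = u := Iff.rfl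
  have hset : commSet a b = {g | ∃ x ∈ Ā, ∃ y ∈ B', ⁅x, y⁆ = g} := by
    ext u
    rw [mem_commSet]
    exact ⟨fun ⟨x, y, h⟩ => ⟨_, ⟨x, rfl⟩, _, ⟨y, rfl⟩, h⟩, fun ⟨_, ⟨x, hx⟩, _, ⟨y, hy⟩, h⟩ =>
      ⟨x, y, by rw [← h, ← hx, ← hy]; rfl⟩⟩
  let pc : (P × κ × (𝔻 ⟶ B)) ⊕ (P × κ' × (𝔻 ⟶ A)) → Set P
    | .inl (g, i, y) => (fun x : 𝔻 ⟶ A => g * ⁅(r i)⁻¹ ≫ a * x ≫ a, y ≫ b⁆ * g⁻¹) '' Z i
    | .inr (g, i, x) => (fun y : 𝔻 ⟶ B => g * ⁅x ≫ a, (r' i)⁻¹ ≫ b * y ≫ b⁆ * g⁻¹) '' Z' i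
  let S' : Set P := ⋃ j, pc j
  have hSS : S' ⊆ commSet a b := by
    rw [hset]
    rintro u hu
    obtain ⟨j, hj⟩ := Set.mem_iUnion.1 hu
    have key : ∀ g : P, ∀ x ∈ Ā, ∀ y ∈ B', g * ⁅x, y⁆ * g⁻¹ ∈ {g | ∃ x ∈ Ā, ∃ y ∈ B', ⁅x, y⁆ = g} :=
      fun g x hx y hy => ⟨_, Subgroup.Normal.conj_mem inferInstance x hx g, _,
        Subgroup.Normal.conj_mem inferInstance y hy g, by simp only [commutatorElement_def]; group⟩
    rcases j with ⟨g, i, y⟩ | ⟨g, i, x⟩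
    · obtain ⟨x, -, rfl⟩ := hj
      exact key g _ (mul_mem ⟨_, rfl⟩ ⟨_, rfl⟩) _ ⟨_, rfl⟩
    · obtain ⟨y, -, rfl⟩ := hj
      exact key g _ ⟨_, rfl⟩ _ (mul_mem ⟨_, rfl⟩ ⟨_, rfl⟩)
  obtain ⟨iA, -⟩ := hZcov 1
  haveI : Nonempty ((P × κ × (𝔻 ⟶ B)) ⊕ (P × κ' × (𝔻 ⟶ A))) := ⟨.inl (1, iA, 1)⟩
  obtain ⟨N₀, hN₀⟩ := exists_dense_of_unit_pieces S' pc (by
    rintro (⟨g, i, y⟩ | ⟨g, i, x⟩)
    · obtain ⟨ψ, hψ⟩ := exists_hom_const (A := A) (y ≫ b)
      obtain ⟨cg, hcg⟩ := exists_hom_const (A := A) g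
      obtain ⟨ρ, hρ⟩ := exists_hom_const (A := A) ((r i)⁻¹ ≫ a)
      exact isPreirreducible_image_comp _ (hZirr i) (cg * ((ρ * a) * ψ * (ρ * a)⁻¹ * ψ⁻¹) * cg⁻¹) _ fun x => by
        simp only [MonObj.comp_mul, GrpObj.comp_inv, hψ, hcg, hρ, commutatorElement_def]
    · obtain ⟨ψ, hψ⟩ := exists_hom_const (A := B) (x ≫ a)
      obtain ⟨cg, hcg⟩ := exists_hom_const (A := B) g
      obtain ⟨ρ, hρ⟩ := exists_hom_const (A := B) ((r' i)⁻¹ ≫ b)
      exact isPreirreducible_image_comp _ (hZirr' i) (cg * (ψ * (ρ * b) * ψ⁻¹ * (ρ * b)⁻¹) * cg⁻¹) _ fun y => by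
        simp only [MonObj.comp_mul, GrpObj.comp_inv, hψ, hcg, hρ, commutatorElement_def])
    (by
      rintro (⟨g, i, y⟩ | ⟨g, i, x⟩)
      · exact ⟨r i, hrZ i, by simp [← MonObj.mul_comp, MonObj.one_comp]⟩
      · exact ⟨r' i, hrZ' i, by simp [← MonObj.mul_comp, MonObj.one_comp]⟩)
    (fun j => Set.subset_iUnion pc j) (fun u hu => Set.mem_iUnion.1 hu)
  let C := Subgroup.closure S'
  haveI : C.Normal := ⟨fun n hn g => by
    induction hn using Subgroup.closure_induction with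
    | mem u hu =>
      refine Subgroup.subset_closure ?_
      obtain ⟨j, hj⟩ := Set.mem_iUnion.1 hu
      rcases j with ⟨g', i, y⟩ | ⟨g', i, x⟩
      · obtain ⟨x, hx, rfl⟩ := hj
        exact Set.mem_iUnion.2 ⟨.inl (g * g', i, y), x, hx, by group⟩
      · obtain ⟨y, hy, rfl⟩ := hj
        exact Set.mem_iUnion.2 ⟨.inr (g * g', i, x), y, hy, by group⟩
    | one => rw [_root_.mul_one, mul_inv_cancel]; exact one_mem C
    | mul u v _ _ hu hv =>
      rw [show g * (u * v) * g⁻¹ = (g * u * g⁻¹) * (g * v * g⁻¹) by group]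
      exact mul_mem hu hv
    | inv u _ hu =>
      rw [show g * u⁻¹ * g⁻¹ = (g * u * g⁻¹)⁻¹ by group]
      exact inv_mem hu⟩
  let π := QuotientGroup.mk' C
  haveI : (Ā.map π).Normal := Subgroup.Normal.map inferInstance π (QuotientGroup.mk'_surjective _)
  haveI : (B'.map π).Normal := Subgroup.Normal.map inferInstance π (QuotientGroup.mk'_surjective _)
  have hnA : ∀ (i : κ) (x : 𝔻 ⟶ A), x ∈ Z i → ∀ v : P, v ∈ B' → Commute (π ((r i)⁻¹ ≫ a * x ≫ a)) (π v) := by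
    intro i x hx v hv
    obtain ⟨y, rfl⟩ := hmemB.1 hv
    rw [← commutatorElement_eq_one_iff_commute, ← map_commutatorElement]
    exact (QuotientGroup.eq_one_iff _).2 (Subgroup.subset_closure
      (Set.mem_iUnion.2 ⟨.inl (1, i, y), x, hx, by simp⟩))
  have hnB : ∀ (i : κ') (y : 𝔻 ⟶ B), y ∈ Z' i → ∀ v : P, v ∈ Ā → Commute (π v) (π ((r' i)⁻¹ ≫ b * y ≫ b)) := by
    intro i y hy v hv
    obtain ⟨x, rfl⟩ := hmemA.1 hv
    rw [← commutatorElement_eq_one_iff_commute, ← map_commutatorElement]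
    exact (QuotientGroup.eq_one_iff _).2 (Subgroup.subset_closure
      (Set.mem_iUnion.2 ⟨.inr (1, i, x), y, hy, by simp⟩))
  have hfin : ((⁅Ā.map π, B'.map π⁆ : Subgroup _) : Set (P ⧸ C)).Finite := by
    refine finite_commutator _ _ ((Set.finite_range fun v : κ × κ' => ⁅π (r v.1 ≫ a), π (r' v.2 ≫ b)⁆).subset ?_) ?_ ?_
    · rintro _ ⟨_, ⟨u, hu, rfl⟩, _, ⟨v, hv, rfl⟩, rfl⟩
      obtain ⟨x, rfl⟩ := hmemA.1 hu
      obtain ⟨y, rfl⟩ := hmemB.1 hv
      obtain ⟨i, hi⟩ := hZcov x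
      obtain ⟨j, hj⟩ := hZcov' y
      refine ⟨(i, j), ?_⟩
      have hx : π (x ≫ a) = π (r i ≫ a) * π ((r i)⁻¹ ≫ a * x ≫ a) := by
        rw [← map_mul, GrpObj.inv_comp, mul_inv_cancel_left]
      have hy : π (y ≫ b) = π (r' j ≫ b) * π ((r' j)⁻¹ ≫ b * y ≫ b) := by
        rw [← map_mul, GrpObj.inv_comp, mul_inv_cancel_left]
      have h1 := hnA i x hi (r' j ≫ b) ⟨_, rfl⟩
      have h2 := hnB j y hj (r i ≫ a) ⟨_, rfl⟩
      have h3 := hnA i x hi ((r' j)⁻¹ ≫ b * y ≫ b) (mul_mem ⟨_, rfl⟩ ⟨_, rfl⟩)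
      rw [hx, hy]
      exact (commutator_mul_eq h1 h2 h3).symm
    · rintro _ ⟨u, hu, rfl⟩
      obtain ⟨x, rfl⟩ := hmemA.1 hu
      choose c hc using fun n : ℕ => hZcov (x ^ n)
      obtain ⟨n₁, n₂, hne, heq⟩ := Finite.exists_ne_map_eq_of_infinite c
      wlog hlt : n₁ < n₂ generalizing n₁ n₂
      · exact this n₂ n₁ hne.symm heq.symm (lt_of_le_of_ne (not_lt.1 hlt) hne.symm)
      refine ⟨n₂ - n₁, Nat.sub_pos_of_lt hlt, ?_⟩
      rintro _ ⟨v, hv, rfl⟩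
      have h1 := hnA _ _ (hc n₁) v hv
      have h2 := hnA _ _ (heq ▸ hc n₂ : x ^ n₂ ∈ Z (c n₁)) v hv
      have e : π (x ≫ a) ^ (n₂ - n₁) = (π ((r (c n₁))⁻¹ ≫ a * (x ^ n₁) ≫ a))⁻¹ *
          π ((r (c n₁))⁻¹ ≫ a * (x ^ n₂) ≫ a) := by
        rw [← map_pow, ← map_inv, ← map_mul]
        congr 1
        show (ptsHom a x) ^ (n₂ - n₁) = (_ * ptsHom a (x ^ n₁))⁻¹ * (_ * ptsHom a (x ^ n₂))
        rw [map_pow, map_pow, _root_.mul_inv_rev, _root_.mul_assoc, inv_mul_cancel_left, eq_inv_mul_iff_mul_eq,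
          ← pow_add]
        congr 1
        omega
      rw [e]
      exact h1.inv_left.mul_left h2
    · rintro _ ⟨u, hu, rfl⟩
      obtain ⟨x, rfl⟩ := hmemB.1 hu
      choose c hc using fun n : ℕ => hZcov' (x ^ n)
      obtain ⟨n₁, n₂, hne, heq⟩ := Finite.exists_ne_map_eq_of_infinite c
      wlog hlt : n₁ < n₂ generalizing n₁ n₂
      · exact this n₂ n₁ hne.symm heq.symm (lt_of_le_of_ne (not_lt.1 hlt) hne.symm)
      refine ⟨n₂ - n₁, Nat.sub_pos_of_lt hlt, ?_⟩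
      rintro _ ⟨v, hv, rfl⟩
      have h1 := hnB _ _ (hc n₁) v hv
      have h2 := hnB _ _ (heq ▸ hc n₂ : x ^ n₂ ∈ Z' (c n₁)) v hv
      have e : π (x ≫ b) ^ (n₂ - n₁) = (π ((r' (c n₁))⁻¹ ≫ b * (x ^ n₁) ≫ b))⁻¹ *
          π ((r' (c n₁))⁻¹ ≫ b * (x ^ n₂) ≫ b) := by
        rw [← map_pow, ← map_inv, ← map_mul]
        congr 1
        show (ptsHom b x) ^ (n₂ - n₁) = (_ * ptsHom b (x ^ n₁))⁻¹ * (_ * ptsHom b (x ^ n₂))
        rw [map_pow, map_pow, _root_.mul_inv_rev, _root_.mul_assoc, inv_mul_cancel_left, eq_inv_mul_iff_mul_eq,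
          ← pow_add]
        congr 1
        omega
      rw [e]
      exact h1.inv_right.mul_right h2
  rw [← Subgroup.map_commutator, Subgroup.coe_map] at hfin
  have hD : (⁅Ā, B'⁆ : Subgroup P) = Subgroup.closure (commSet a b) := by
    rw [hset]
    exact Subgroup.commutator_def Ā B'
  have h1S : (1 : P) ∈ commSet a b := (mem_commSet a b).2 ⟨1, 1, by simp [MonObj.one_comp]⟩
  haveI : Finite ↥(π '' ((⁅Ā, B'⁆ : Subgroup P) : Set P)) := hfin.to_subtype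
  choose rep hrep hrepπ using fun q : ↥(π '' ((⁅Ā, B'⁆ : Subgroup P) : Set P)) => q.2
  choose M hM using fun q : ↥(π '' ((⁅Ā, B'⁆ : Subgroup P) : Set P)) => mem_words_of_mem_closure (hD ▸ hrep q :
    rep q ∈ Subgroup.closure (commSet a b))
  haveI := Fintype.ofFinite ↥(π '' ((⁅Ā, B'⁆ : Subgroup P) : Set P))
  refine ⟨Finset.univ.sup M + N₀, fun m => ?_⟩
  rintro _ ⟨u, hu, rfl⟩
  have huD : u ∈ ⁅Ā, B'⁆ := by rw [hD]; exact words_le_closure _ m hu
  let q : ↥(π '' ((⁅Ā, B'⁆ : Subgroup P) : Set P)) := ⟨π u, u, huD, rfl⟩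
  have huC : (rep q)⁻¹ * u ∈ C := QuotientGroup.eq.1 (hrepπ q)
  obtain ⟨n, hn⟩ := mem_words_of_mem_closure huC
  have h := map_mem_closure (f := ((toUnit G ≫ rep q) * 𝟙 G).left.base) (Scheme.Hom.continuous _)
    (hN₀ n ⟨_, hn, rfl⟩) (t := kpt '' words (commSet a b) (Finset.univ.sup M + N₀)) ?_
  · rwa [← kpt_comp, MonObj.comp_mul, Category.comp_id, ← Category.assoc,
      toUnit_unique (((rep q)⁻¹ * u) ≫ toUnit G) (𝟙 _), Category.id_comp, mul_inv_cancel_left] at h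
  · rintro _ ⟨w, hw, rfl⟩
    refine ⟨rep q * w, words_le h1S (Nat.add_le_add_right (Finset.le_sup (Finset.mem_univ q)) N₀)
      (words_add (hM q) ?_), ?_⟩
    · obtain ⟨l, hl, hS, hp⟩ := hw
      exact ⟨l, hl, fun z hz => (hS z hz).imp (fun h => hSS h) (fun h => hSS h), hp⟩
    · rw [← kpt_comp, MonObj.comp_mul, Category.comp_id, ← Category.assoc, toUnit_unique (w ≫ toUnit G) (𝟙 _),
        Category.id_comp]

omit [GrpObj A] [GrpObj B] [IsMonHom a] [IsMonHom b] in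
theorem range_points (hA : LocallyOfFiniteType A.hom ∧ QuasiCompact A.hom)
    (hB : LocallyOfFiniteType B.hom ∧ QuasiCompact B.hom) [GeometricallyReduced A.hom] [GeometricallyReduced B.hom]
    (hb : ∃ N, ∀ m, kpt '' words (commSet a b) m ⊆ closure (kpt '' words (commSet a b) N))
    (Γ : Over (Spec (CommRingCat.of k))) [GrpObj Γ] (i : Γ ⟶ G) [IsMonHom i] [IsClosedImmersion i.left]
    (hf : ∃ f' : A ⊗ B ⟶ Γ, f' ≫ i = commMap a b)
    (hmin : ∀ (Γ' : Over (Spec (CommRingCat.of k))) (_ : GrpObj Γ') (i' : Γ' ⟶ G), IsMonHom i' →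
      IsClosedImmersion i'.left → (∃ f'' : A ⊗ B ⟶ Γ', f'' ≫ i' = commMap a b) → ∃ j : Γ ⟶ Γ', j ≫ i' = i) :
    Set.range (fun z : 𝔻 ⟶ Γ => z ≫ i) = (Subgroup.closure (commSet a b) : Set (𝔻 ⟶ G)) := by
  obtain ⟨_, _⟩ := hA
  obtain ⟨_, _⟩ := hB
  haveI : LocallyOfFiniteType (A ⊗ B).hom := by rw [Over.tensorObj_hom]; infer_instance
  haveI : QuasiCompact (A ⊗ B).hom := by rw [Over.tensorObj_hom]; infer_instance
  haveI := geometricallyReduced_tensor A B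
  obtain ⟨N, hN⟩ := hb
  have hbound : ∀ m, pts (commMap a b) m ⊆ closure (pts (commMap a b) N) := by
    intro m
    refine (pts_subset_closure (commMap a b) (K := k) (𝟙 _) m).trans (closure_minimal ?_ isClosed_closure)
    refine fun g hg => closure_mono ?_ (hN m hg)
    rintro _ ⟨v, hv, rfl⟩
    exact pts_of_words (commMap a b) (K := k) (𝟙 _) hv
  obtain ⟨N', hN'⟩ := exists_range_eq_of_bound (commMap a b) ⟨N, hbound⟩ Γ i hf hmin
  refine le_antisymm ?_ ?_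
  · rintro _ ⟨z, rfl⟩
    have hz : kpt (z ≫ i) ∈ pts (commMap a b) N' := hN' ▸ ⟨kpt z, (kpt_comp z i).symm⟩
    rw [pts_eq_iUnion] at hz
    obtain ⟨ε, p, hp⟩ := Set.mem_iUnion.1 hz
    haveI := (src_props (X := A ⊗ B) ε.1).1
    haveI := (src_props (X := A ⊗ B) ε.1).2
    haveI : JacobsonSpace (src (A ⊗ B) ε.1).left :=
      LocallyOfFiniteType.jacobsonSpace (Y := Spec _) (src (A ⊗ B) ε.1).hom
    have hc : IsClosed ({kpt (z ≫ i)} : Set G.left) := by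
      have : GrothLib.GrpClass19.ptLoc (K := k) (H := G) (z ≫ i) ∈ closedPoints G.left := by
        rw [← GrothLib.GrpClass19.range_ptLoc]
        exact ⟨_, rfl⟩
      exact this
    obtain ⟨q, hq, hqc⟩ := nonempty_inter_closedPoints
      (Z := (word (commMap a b) ε.1).left.base ⁻¹' {kpt (z ≫ i)}) ⟨p, hp⟩
      (hc.preimage (Scheme.Hom.continuous _)).isLocallyClosed
    obtain ⟨t, rfl⟩ : q ∈ Set.range (GrothLib.GrpClass19.ptLoc (K := k) (H := src (A ⊗ B) ε.1)) := by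
      rw [GrothLib.GrpClass19.range_ptLoc]
      exact hqc
    obtain ⟨l, -, hl⟩ := word_lists (commMap a b) ε.1 _ t
    have e : z ≫ i = t ≫ word (commMap a b) ε.1 :=
      GrothLib.GrpClass19.ptLoc_injective (K := k) (H := G) (Eq.symm hq)
    show z ≫ i ∈ Subgroup.closure _
    rw [e]
    erw [← hl]
    refine list_prod_mem fun v hv => ?_
    obtain ⟨w, -, rfl⟩ := List.mem_map.1 hv
    rcases w with ⟨x, _ | _⟩
    · exact inv_mem (Subgroup.subset_closure ⟨x, rfl⟩)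
    · exact Subgroup.subset_closure ⟨x, rfl⟩
  · obtain ⟨f', hf'⟩ := hf
    have : Subgroup.closure (commSet a b) ≤ (ptsHom i).range := by
      refine (Subgroup.closure_le _).2 ?_
      rintro _ ⟨x, rfl⟩
      exact ⟨x ≫ f', by show (x ≫ f') ≫ i = _; rw [Category.assoc, hf']⟩
    exact fun u hu => this hu

end GrothLib.GenWords19
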