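import Groth.Agent.Lib.GenWords19.Main
import Groth.Agent.Lib.GrpClass19.Geom

/-!
# Generated subgroups containing a subgroup of finite index
-/

set_option autoImplicit false
set_option backward.isDefEq.respectTransparency false
set_option linter.style.haveILetI false

universe u

open CategoryTheory CategoryTheory.Limits MonoidalCategory CartesianMonoidalCategory MonObj GrpObj
open AlgebraicGeometry Topology

noncomputable section

namespace GrothLib.GenWords19

open GenSubgrp14

variable {k : Type u} [Field k] {G X : Over (Spec (CommRingCat.of k))} [GrpObj G]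

/-- The point of a rational point. -/
abbrev kpt {Y : Over (Spec (CommRingCat.of k))} (a : 𝟙_ (Over (Spec (CommRingCat.of k))) ⟶ Y) : Y.left :=
  a.left.base (IsLocalRing.closedPoint k)

theorem kpt_comp {Y Z : Over (Spec (CommRingCat.of k))} (a : 𝟙_ (Over (Spec (CommRingCat.of k))) ⟶ Y)
    (φ : Y ⟶ Z) : kpt (a ≫ φ) = φ.left.base (kpt a) := rfl

theorem base_eq_kpt {Y : Over (Spec (CommRingCat.of k))} (a : 𝟙_ (Over (Spec (CommRingCat.of k))) ⟶ Y)
    (p : (𝟙_ (Over (Spec (CommRingCat.of k)))).left) : a.left.base p = kpt a :=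
  congrArg a.left.base (Subsingleton.elim (α := PrimeSpectrum k) p _)

/-- A map from a reduced scheme to a rational point is constant. -/
theorem eq_toUnit_comp [LocallyOfFiniteType G.hom] (a : 𝟙_ (Over (Spec (CommRingCat.of k))) ⟶ G)
    {P : Over (Spec (CommRingCat.of k))} [IsReduced P.left] (u : P ⟶ G)
    (h : ∀ p, u.left.base p = kpt a) : u = toUnit P ≫ a := by
  haveI := GrothLib.GrpSchField.isSeparated G
  haveI : IsClosedImmersion a.left := by
    haveI : IsClosedImmersion (a.left ≫ G.hom) := by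
      rw [Over.w]
      exact inferInstanceAs (IsClosedImmersion (𝟙 _))
    exact IsClosedImmersion.of_comp _ G.hom
  obtain ⟨l, hl⟩ := RedSub.exists_lift u.left a.left (by rintro _ ⟨p, rfl⟩; exact ⟨_, (h p).symm⟩)
  have hl' : l = P.hom := by
    have := congrArg (fun m => m ≫ G.hom) hl
    simp only [Category.assoc, Over.w] at this
    simpa using this
  refine Over.OverMorphism.ext ?_
  rw [← hl, hl']
  rfl

/-- The spectrum of a residue field as an object over the base field. -/
abbrev resObj (T : Over (Spec (CommRingCat.of k))) (p : T.left) : Over (Spec (CommRingCat.of k)) :=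
  Over.mk (T.left.fromSpecResidueField p ≫ T.hom)

/-- Its map to the scheme. -/
abbrev resMap (T : Over (Spec (CommRingCat.of k))) (p : T.left) : resObj T p ⟶ T :=
  Over.homMk (T.left.fromSpecResidueField p)

theorem exists_snd_eq (P A : Over (Spec (CommRingCat.of k))) (p : P.left) (x : A.left) :
    ∃ q : (P ⊗ A).left, (fst P A).left.base q = p ∧ (snd P A).left.base q = x := by
  obtain ⟨q, h1, h2⟩ := Scheme.Pullback.exists_preimage_pullback (f := P.hom) (g := A.hom) p x
    (Subsingleton.elim (α := PrimeSpectrum k) _ _)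
  exact ⟨q, h1, h2⟩

variable (f : X ⟶ G) [LocallyOfFiniteType G.hom]

theorem pts_translate (a : 𝟙_ (Over (Spec (CommRingCat.of k))) ⟶ G) {n : ℕ} (ha : kpt a ∈ pts f n)
    (x : X.left) : ((toUnit G ≫ a) * 𝟙 G).left.base (f.left.base x) ∈ pts f (n + 1) := by
  obtain ⟨T, p, l, hl, hp⟩ := ha
  haveI : IsReduced (resObj T p).left := inferInstanceAs (IsReduced (Spec (T.left.residueField p)))
  have hu : resMap T p ≫ lval f l = toUnit _ ≫ a := eq_toUnit_comp a _ fun t => by
    rw [Over.comp_left, Scheme.Hom.comp_apply]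
    show (lval f l).left.base ((T.left.fromSpecResidueField p).base t) = _
    rw [Scheme.fromSpecResidueField_apply, hp]
  obtain ⟨q, -, hq⟩ := exists_snd_eq (resObj T p) X (IsLocalRing.closedPoint (T.left.residueField p)) x
  refine ⟨resObj T p ⊗ X, q,
    (l.map fun b => ((fst (resObj T p) X ≫ resMap T p) ≫ b.1, b.2)) ++ [(snd (resObj T p) X, true)],
    by simp [hl], ?_⟩
  have e : lval f ((l.map fun b => ((fst (resObj T p) X ≫ resMap T p) ≫ b.1, b.2)) ++
      [(snd (resObj T p) X, true)]) = snd (resObj T p) X ≫ f ≫ ((toUnit G ≫ a) * 𝟙 G) := by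
    have : lval f ((l.map fun b => ((fst (resObj T p) X ≫ resMap T p) ≫ b.1, b.2)) ++
        [(snd (resObj T p) X, true)]) = ((fst (resObj T p) X ≫ resMap T p) ≫ lval f l) *
          (snd (resObj T p) X ≫ f) := by
      rw [comp_lval]
      simp [lval, letter]
    rw [this, Category.assoc, hu]
    simp only [MonObj.comp_mul, Category.comp_id]
    rw [← Category.assoc, ← Category.assoc (snd (resObj T p) X), ← Category.assoc]
    congr 2
    exact toUnit_unique _ _
  rw [e, Over.comp_left, Over.comp_left, Scheme.Hom.comp_apply, Scheme.Hom.comp_apply, hq]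

theorem pts_mono (he : ∃ x : X.left, f.left.base x ∈
    Set.range (η[G] : 𝟙_ (Over (Spec (CommRingCat.of k))) ⟶ G).left.base) : Monotone (pts f) := by
  obtain ⟨x, p₀, hx⟩ := he
  haveI : IsReduced (resObj X x).left := inferInstanceAs (IsReduced (Spec (X.left.residueField x)))
  have hv : resMap X x ≫ f = 1 := by
    rw [Hom.one_def]
    refine eq_toUnit_comp _ _ fun t => ?_
    rw [Over.comp_left, Scheme.Hom.comp_apply]
    show f.left.base ((X.left.fromSpecResidueField x).base t) = _
    rw [Scheme.fromSpecResidueField_apply, ← hx, base_eq_kpt]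
  refine monotone_nat_of_le_succ fun n g hg => ?_
  obtain ⟨T, p, l, hl, hp⟩ := hg
  obtain ⟨q, hq, -⟩ := exists_snd_eq T (resObj X x) p (IsLocalRing.closedPoint (X.left.residueField x))
  refine ⟨T ⊗ resObj X x, q,
    (l.map fun b => (fst T (resObj X x) ≫ b.1, b.2)) ++ [(snd T (resObj X x) ≫ resMap X x, true)],
    by simp [hl], ?_⟩
  have e : lval f ((l.map fun b => (fst T (resObj X x) ≫ b.1, b.2)) ++
      [(snd T (resObj X x) ≫ resMap X x, true)]) = fst T (resObj X x) ≫ lval f l := by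
    rw [comp_lval]
    simp [lval, letter, hv, MonObj.comp_one]
  rw [e, Over.comp_left, Scheme.Hom.comp_apply, hq, hp]

variable [IsAlgClosed k]

omit [GrpObj G] [LocallyOfFiniteType G.hom] in
/-- Closed conditions on rational points hold everywhere. -/
theorem range_subset_of_kpt {T : Over (Spec (CommRingCat.of k))} [LocallyOfFiniteType T.hom] (w : T ⟶ G)
    {Z : Set G.left} (hZ : IsClosed Z)
    (h : ∀ t : 𝟙_ (Over (Spec (CommRingCat.of k))) ⟶ T, kpt (t ≫ w) ∈ Z) : Set.range w.left.base ⊆ Z := by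
  haveI : JacobsonSpace T.left := LocallyOfFiniteType.jacobsonSpace (Y := Spec _) T.hom
  rintro _ ⟨p, rfl⟩
  by_contra hp
  obtain ⟨q, hq, hqc⟩ := nonempty_inter_closedPoints (Z := w.left.base ⁻¹' Zᶜ) ⟨p, hp⟩
    (hZ.isOpen_compl.preimage w.left.continuous).isLocallyClosed
  obtain ⟨t, rfl⟩ : q ∈ Set.range (GrothLib.GrpClass19.ptLoc (K := k) (H := T)) := by
    rw [GrothLib.GrpClass19.range_ptLoc]
    exact hqc
  exact hq (h t)

/-- The generated subgroup when a subgroup in the image has finite index in the words. -/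
theorem finiteIndex [LocallyOfFiniteType X.hom] [GeometricallyReduced X.hom]
    {H : Over (Spec (CommRingCat.of k))} [GrpObj H] (h : H ⟶ G) [IsMonHom h] [IsClosedImmersion h.left]
    (hH : Set.range h.left.base ⊆ Set.range f.left.base)
    (Γ : Over (Spec (CommRingCat.of k))) [GrpObj Γ] (i : Γ ⟶ G) [IsMonHom i] [IsClosedImmersion i.left]
    (hf : ∃ f' : X ⟶ Γ, f' ≫ i = f)
    (hmin : ∀ (Γ' : Over (Spec (CommRingCat.of k))) (_ : GrpObj Γ') (i' : Γ' ⟶ G), IsMonHom i' →
      IsClosedImmersion i'.left → (∃ f'' : X ⟶ Γ', f'' ≫ i' = f) → ∃ j : Γ ⟶ Γ', j ≫ i' = i)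
    (F : Finset (𝟙_ (Over (Spec (CommRingCat.of k))) ⟶ G)) (hF1 : ∀ a ∈ F, ∃ n, kpt a ∈ pts f n)
    (hF2 : ∀ g : 𝟙_ (Over (Spec (CommRingCat.of k))) ⟶ G, (∃ n, kpt g ∈ pts f n) →
      ∃ a ∈ F, ∃ y : 𝟙_ (Over (Spec (CommRingCat.of k))) ⟶ H, g = a * (y ≫ h)) :
    (∃ m, Set.range i.left.base = pts f m) ∧ Set.range i.left.base =
      ⋃ a ∈ F, (fun z => ((toUnit G ≫ a) * 𝟙 G).left.base z) '' Set.range h.left.base := by
  classical
  obtain ⟨hr, -⟩ := range_eq_and_geometricallyReduced (Gen := Single f)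
    (fun _ _ h => by cases h; assumption) Γ i (fun _ _ h => by cases h; exact hf)
    (fun Γ' h1 i' h2 h3 h4 => hmin Γ' h1 i' h2 h3 (h4 _ _ .mk))
  obtain ⟨f', hf'⟩ := hf
  have hsub : ∀ m, pts f m ⊆ Set.range i.left.base := by
    rintro m _ ⟨T, p, l, -, rfl⟩
    have hv : lval f' l ≫ i = lval f l := by
      induction l with
      | nil => simp [lval, MonObj.one_comp]
      | cons a l ih =>
        simp only [lval, List.map_cons, List.prod_cons, MonObj.mul_comp] at ih ⊢
        rw [ih]
        congr 1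
        simp only [letter]
        split_ifs <;> simp [GrpObj.inv_comp, hf']
    exact ⟨(lval f' l).left.base p, by rw [← hv, Over.comp_left, Scheme.Hom.comp_apply]⟩
  let W : Set G.left := ⋃ a ∈ F, (fun z => ((toUnit G ≫ a) * 𝟙 G).left.base z) '' Set.range h.left.base
  have htr : ∀ a g : 𝟙_ (Over (Spec (CommRingCat.of k))) ⟶ G, g ≫ ((toUnit G ≫ a) * 𝟙 G) = a * g := by
    intro a g
    rw [MonObj.comp_mul, Category.comp_id, ← Category.assoc, toUnit_unique (g ≫ toUnit G) (𝟙 _), Category.id_comp]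
  have hWc : IsClosed W := by
    refine Set.Finite.isClosed_biUnion F.finite_toSet fun a _ => ?_
    have hhom : ∀ b : 𝟙_ (Over (Spec (CommRingCat.of k))) ⟶ G,
        ((toUnit G ≫ b) * 𝟙 G) ≫ ((toUnit G ≫ b⁻¹) * 𝟙 G) = 𝟙 G := by
      intro b
      rw [MonObj.comp_mul, Category.comp_id, ← Category.assoc,
        toUnit_unique (((toUnit G ≫ b) * 𝟙 G) ≫ toUnit G) (toUnit G), GrpObj.comp_inv, ← _root_.mul_assoc,
        inv_mul_cancel, _root_.one_mul]
    haveI : IsIso ((toUnit G ≫ a) * 𝟙 G) :=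
      ⟨(toUnit G ≫ a⁻¹) * 𝟙 G, hhom a, by simpa [_root_.inv_inv] using hhom a⁻¹⟩
    haveI : IsIso ((toUnit G ≫ a) * 𝟙 G).left := inferInstanceAs (IsIso ((Over.forget (Spec (CommRingCat.of k))).map ((toUnit G ≫ a) * 𝟙 G)))
    exact ((toUnit G ≫ a) * 𝟙 G).left.homeomorph.isClosedMap _ h.left.isClosedEmbedding.isClosed_range
  have he : ∃ x : X.left, f.left.base x ∈
      Set.range (η[G] : 𝟙_ (Over (Spec (CommRingCat.of k))) ⟶ G).left.base := by
    obtain ⟨x, hx⟩ := hH ⟨kpt (η[H]), rfl⟩
    refine ⟨x, IsLocalRing.closedPoint k, ?_⟩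
    rw [hx, ← kpt_comp, IsMonHom.one_hom]
  choose n hn using hF1
  let m := F.attach.sup fun a => n a.1 a.2 + 1
  have hWpts : W ⊆ pts f m := by
    intro z hz
    simp only [W, Set.mem_iUnion] at hz
    obtain ⟨a, ha, _, ⟨y, rfl⟩, rfl⟩ := hz
    obtain ⟨x, hx⟩ := hH ⟨y, rfl⟩
    show ((toUnit G ≫ a) * 𝟙 G).left.base (h.left.base y) ∈ _
    rw [← hx]
    exact pts_mono f he (Finset.le_sup (f := fun a : {x // x ∈ F} => n a.1 a.2 + 1) (Finset.mem_attach _ ⟨a, ha⟩))
      (pts_translate f a (hn a ha) x)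
  have hiW : Set.range i.left.base ⊆ W := by
    refine hr.le.trans (closure_minimal ?_ hWc)
    rintro _ ⟨V, w, hw, p, rfl⟩
    have hlft : LocallyOfFiniteType V.hom := by
      clear p
      induction hw with
      | one => exact show LocallyOfFiniteType (𝟙 _) from inferInstance
      | of hg => cases hg; assumption
      | inv _ ih => exact ih
      | @mul V V' _ _ _ _ ih ih' =>
        show LocallyOfFiniteType (V ⊗ V').hom
        rw [Over.tensorObj_hom]
        infer_instance
    obtain ⟨n', hn'⟩ := exists_list f hw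
    refine range_subset_of_kpt w hWc (fun t => ?_) ⟨p, rfl⟩
    obtain ⟨l, hl, hlv⟩ := hn' _ t
    obtain ⟨a, ha, y, hy⟩ := hF2 (t ≫ w) ⟨n', _, _, l, hl, by rw [hlv]⟩
    simp only [W, Set.mem_iUnion]
    refine ⟨a, ha, _, ⟨kpt y, rfl⟩, ?_⟩
    show ((toUnit G ≫ a) * 𝟙 G).left.base (h.left.base (kpt y)) = _
    rw [← kpt_comp, ← kpt_comp, htr, hy]
  exact ⟨⟨m, le_antisymm (hiW.trans hWpts) (hsub m)⟩, le_antisymm hiW (hWpts.trans (hsub m))⟩

end GrothLib.GenWords19
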