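import Groth.Agent.Lib.GenWords19.Points
import Groth.Agent.Lib.GenSubgrp14.Product
import Mathlib.FieldTheory.IsAlgClosed.AlgebraicClosure
import Mathlib.AlgebraicGeometry.Morphisms.FinitePresentation

/-!
# The generated subgroup is the set of words of a fixed length
-/

set_option autoImplicit false
set_option backward.isDefEq.respectTransparency false
set_option linter.style.haveILetI false

universe u

open CategoryTheory CategoryTheory.Limits MonoidalCategory CartesianMonoidalCategory MonObj GrpObj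
open AlgebraicGeometry Topology

noncomputable section

namespace GrothLib.GenWords19

open GenSubgrp14

variable {k : Type u} [Field k] {G X : Over (Spec (CommRingCat.of k))} [GrpObj G] (f : X ⟶ G)

/-- A letter: a value of `f` or its inverse. -/
def letter {T : Over (Spec (CommRingCat.of k))} (a : (T ⟶ X) × Bool) : T ⟶ G :=
  if a.2 then a.1 ≫ f else (a.1 ≫ f)⁻¹

/-- The product of a list of letters. -/
def lval {T : Over (Spec (CommRingCat.of k))} (l : List ((T ⟶ X) × Bool)) : T ⟶ G := (l.map (letter f)).prod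

/-- The points in the images of words of length `n`. -/
def pts (n : ℕ) : Set G.left :=
  {g | ∃ (T : Over (Spec (CommRingCat.of k))) (p : T.left) (l : List ((T ⟶ X) × Bool)),
    l.length = n ∧ (lval f l).left.base p = g}

theorem pts_eq (n : ℕ) : pts f n =
    {g : G.left | ∃ (T : Over (Spec (CommRingCat.of k))) (p : T.left) (x : Fin n → (T ⟶ X)) (ε : Fin n → Bool),
      ((List.ofFn fun j : Fin n => if ε j then x j ≫ f else (x j ≫ f)⁻¹).prod : T ⟶ G).left.base p = g} := by
  ext g
  constructor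
  · rintro ⟨T, p, l, rfl, rfl⟩
    refine ⟨T, p, fun j => l[j].1, fun j => l[j].2, ?_⟩
    have h : (List.ofFn fun j : Fin l.length => if l[j].2 then l[j].1 ≫ f else (l[j].1 ≫ f)⁻¹) = l.map (letter f) :=
      List.ofFn_getElem_eq_map l (letter f)
    rw [h]
    rfl
  · rintro ⟨T, p, x, ε, rfl⟩
    refine ⟨T, p, List.ofFn fun j => (x j, ε j), List.length_ofFn .., ?_⟩
    rw [lval, List.map_ofFn]
    rfl

theorem comp_lval {T T' : Over (Spec (CommRingCat.of k))} (π : T' ⟶ T) (l : List ((T ⟶ X) × Bool)) :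
    π ≫ lval f l = lval f (l.map fun a => (π ≫ a.1, a.2)) := by
  induction l with
  | nil => simp [lval, MonObj.comp_one]
  | cons a l ih =>
    simp only [lval, List.map_cons, List.prod_cons, MonObj.comp_mul] at ih ⊢
    rw [ih]
    congr 1
    simp only [letter]
    split_ifs <;> simp [GrpObj.comp_inv]

theorem inv_lval {T : Over (Spec (CommRingCat.of k))} (l : List ((T ⟶ X) × Bool)) :
    (lval f l)⁻¹ = lval f (l.reverse.map fun a => (a.1, !a.2)) := by
  simp only [lval, List.prod_inv_reverse, List.map_reverse, List.map_map]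
  congr 2
  refine List.map_congr_left fun a _ => ?_
  rcases a with ⟨x, _ | _⟩ <;> simp [letter]

/-- Words are products of lists of letters. -/
theorem exists_list {W : Over (Spec (CommRingCat.of k))} {w : W ⟶ G} (hw : IsWord (Single f) W w) :
    ∃ n, ∀ (T : Over (Spec (CommRingCat.of k))) (t : T ⟶ W),
      ∃ l : List ((T ⟶ X) × Bool), l.length = n ∧ lval f l = t ≫ w := by
  induction hw with
  | one =>
    refine ⟨0, fun T t => ⟨[], rfl, ?_⟩⟩
    rw [toUnit_unique t (toUnit T)]
    simp [lval, Hom.one_def]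
  | of hf =>
    cases hf
    exact ⟨1, fun T t => ⟨[(t, true)], rfl, by simp [lval, letter]⟩⟩
  | inv _ ih =>
    obtain ⟨n, hn⟩ := ih
    refine ⟨n, fun T t => ?_⟩
    obtain ⟨l, hl, hlv⟩ := hn T t
    exact ⟨l.reverse.map fun a => (a.1, !a.2), by simp [hl], by rw [← inv_lval, hlv, GrpObj.comp_inv]⟩
  | @mul W W' w w' _ _ ih ih' =>
    obtain ⟨n, hn⟩ := ih
    obtain ⟨n', hn'⟩ := ih'
    refine ⟨n + n', fun T t => ?_⟩
    obtain ⟨l, hl, hlv⟩ := hn T (t ≫ fst W W')
    obtain ⟨l', hl', hlv'⟩ := hn' T (t ≫ snd W W')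
    refine ⟨l ++ l', by simp [hl, hl'], ?_⟩
    have : lval f (l ++ l') = lval f l * lval f l' := by simp [lval]
    rw [this, hlv, hlv', MonObj.comp_mul, Category.assoc, Category.assoc]

/-- The source of the word of a given shape. -/
def src (X : Over (Spec (CommRingCat.of k))) : List Bool → Over (Spec (CommRingCat.of k))
  | [] => 𝟙_ _
  | _ :: l => X ⊗ src X l

/-- The word of a given shape. -/
def word : ∀ l : List Bool, src X l ⟶ G
  | [] => 1
  | b :: l => letter f (fst X (src X l), b) * (snd X (src X l) ≫ word l)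

theorem word_lists (ε : List Bool) (T : Over (Spec (CommRingCat.of k))) (t : T ⟶ src X ε) :
    ∃ l : List ((T ⟶ X) × Bool), l.length = ε.length ∧ lval f l = t ≫ word f ε := by
  induction ε with
  | nil => exact ⟨[], rfl, by simp [lval, word, MonObj.comp_one]⟩
  | cons b ε ih =>
    obtain ⟨l, hl, hlv⟩ := ih (t ≫ snd X (src X ε))
    refine ⟨(t ≫ fst X (src X ε), b) :: l, by simp [hl], ?_⟩
    rw [Category.assoc] at hlv
    simp only [word]
    erw [MonObj.comp_mul]
    rw [← hlv]
    show (_ :: List.map _ _).prod = _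
    rw [List.prod_cons]
    congr 1
    simp only [letter]
    split_ifs <;> simp [GrpObj.comp_inv]

theorem exists_factor_word {T : Over (Spec (CommRingCat.of k))} (l : List ((T ⟶ X) × Bool)) :
    ∃ t : T ⟶ src X (l.map Prod.snd), t ≫ word f (l.map Prod.snd) = lval f l := by
  induction l with
  | nil =>
    exact ⟨toUnit T, show toUnit T ≫ (1 : 𝟙_ (Over (Spec (CommRingCat.of k))) ⟶ G) = 1 from MonObj.comp_one _⟩
  | cons a l ih =>
    obtain ⟨t, ht⟩ := ih
    refine ⟨lift a.1 t, ?_⟩
    show lift a.1 t ≫ (letter f (fst X (src X (l.map Prod.snd)), a.2) *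
      (snd X (src X (l.map Prod.snd)) ≫ word f (l.map Prod.snd))) = _
    rw [MonObj.comp_mul]
    rw [lift_snd_assoc, ht]
    show _ = (_ :: List.map _ _).prod
    rw [List.prod_cons]
    congr 1
    simp only [letter]
    split_ifs <;> simp [GrpObj.comp_inv]

theorem pts_eq_iUnion (n : ℕ) :
    pts f n = ⋃ ε : List.Vector Bool n, Set.range (word f ε.1).left.base := by
  ext g
  simp only [Set.mem_iUnion]
  constructor
  · rintro ⟨T, p, l, hl, rfl⟩
    obtain ⟨t, ht⟩ := exists_factor_word f l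
    refine ⟨⟨l.map Prod.snd, by simp [hl]⟩, t.left.base p, ?_⟩
    rw [← ht, Over.comp_left, Scheme.Hom.comp_apply]
  · rintro ⟨ε, p, rfl⟩
    obtain ⟨l, hl, hlv⟩ := word_lists f ε.1 _ (𝟙 _)
    exact ⟨_, p, l, hl.trans ε.2, by rw [hlv, Category.id_comp]⟩

variable [LocallyOfFiniteType X.hom] [QuasiCompact X.hom]

theorem src_props : ∀ l : List Bool, LocallyOfFiniteType (src X l).hom ∧ QuasiCompact (src X l).hom
  | [] => ⟨show LocallyOfFiniteType (𝟙 _) from inferInstance, show QuasiCompact (𝟙 _) from inferInstance⟩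
  | _ :: l => by
    obtain ⟨h1, h2⟩ := src_props l
    show LocallyOfFiniteType (X ⊗ src X l).hom ∧ QuasiCompact (X ⊗ src X l).hom
    rw [Over.tensorObj_hom]
    exact ⟨inferInstance, inferInstance⟩

/-- Points of words lie in the closure of the points of words in values over the extension. -/
theorem pts_subset_closure {K : Type u} [Field K] [IsAlgClosed K]
    (s : Spec (CommRingCat.of K) ⟶ Spec (CommRingCat.of k)) (m : ℕ) :
    pts f m ⊆ closure ((fun v : extPt s ⟶ G => v.left.base (IsLocalRing.closedPoint K)) ''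
      words (Set.range fun x : extPt s ⟶ X => x ≫ f) m) := by
  rw [pts_eq_iUnion]
  refine Set.iUnion_subset fun ε => ?_
  rintro _ ⟨p, rfl⟩
  by_contra hp
  haveI := (src_props (X := X) ε.1).1
  haveI := (src_props (X := X) ε.1).2
  haveI : JacobsonSpace ↥(pullback (src X ε.1).hom s) :=
    LocallyOfFiniteType.jacobsonSpace (Y := Spec _) (pullback.snd (src X ε.1).hom s)
  obtain ⟨z, hz⟩ : ∃ z, (pullback.fst (src X ε.1).hom s).base z = p := by
    obtain ⟨z, hz, -⟩ := Scheme.Pullback.exists_preimage_pullback (f := (src X ε.1).hom) (g := s) p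
      (IsLocalRing.closedPoint K) (Subsingleton.elim (α := PrimeSpectrum k) _ _)
    exact ⟨z, hz⟩
  obtain ⟨q, hq, hqc⟩ := nonempty_inter_closedPoints
    (Z := (pullback.fst (src X ε.1).hom s ≫ (word f ε.1).left).base ⁻¹'
      (closure ((fun v : extPt s ⟶ G => v.left.base (IsLocalRing.closedPoint K)) ''
        words (Set.range fun x : extPt s ⟶ X => x ≫ f) m))ᶜ)
    ⟨z, by
      rw [Set.mem_preimage, Scheme.Hom.comp_apply, hz, Set.mem_compl_iff]
      exact hp⟩
    (isClosed_closure.isOpen_compl.preimage (Scheme.Hom.continuous _)).isLocallyClosed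
  rw [← range_loc] at hqc
  obtain ⟨u, rfl⟩ := hqc
  refine hq (subset_closure ⟨u ≫ word f ε.1, ?_, ?_⟩)
  · obtain ⟨l, hl, hlv⟩ := word_lists f ε.1 _ u
    refine ⟨l.map (letter f), by simp [hl, ε.2], ?_, hlv⟩
    intro v hv
    obtain ⟨a, -, rfl⟩ := List.mem_map.1 hv
    rcases a with ⟨x, _ | _⟩
    · exact Or.inr ⟨x, by simp [letter]⟩
    · exact Or.inl ⟨x, by simp [letter]⟩
  · show (u ≫ word f ε.1).left.base _ = (pullback.fst _ s ≫ (word f ε.1).left).base (loc s u)
    rw [Scheme.Hom.comp_apply, fst_loc, Over.comp_left, Scheme.Hom.comp_apply]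

omit [LocallyOfFiniteType X.hom] [QuasiCompact X.hom] in
theorem pts_of_words {K : Type u} [Field K] (s : Spec (CommRingCat.of K) ⟶ Spec (CommRingCat.of k))
    {m : ℕ} {v : extPt s ⟶ G} (hv : v ∈ words (Set.range fun x : extPt s ⟶ X => x ≫ f) m) :
    v.left.base (IsLocalRing.closedPoint K) ∈ pts f m := by
  obtain ⟨l, hl, hS, rfl⟩ := hv
  have : ∀ x ∈ l, ∃ a : (extPt s ⟶ X) × Bool, letter f a = x := by
    intro x hx
    rcases hS x hx with ⟨y, hy⟩ | ⟨y, hy⟩
    · exact ⟨(y, true), by simpa [letter] using hy⟩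
    · refine ⟨(y, false), ?_⟩
      show (y ≫ f)⁻¹ = x
      simp only at hy
      rw [hy, _root_.inv_inv]
  choose a ha using this
  refine ⟨_, IsLocalRing.closedPoint K, l.attach.map (fun x => a x.1 x.2), by simpa using hl, ?_⟩
  have e : List.map (letter f) (l.attach.map fun x => a x.1 x.2) = l := by
    rw [List.map_map]
    conv_rhs => rw [← List.attach_map_subtype_val l]
    exact List.map_congr_left fun x _ => ha x.1 x.2
  rw [lval, e]

variable [LocallyOfFiniteType G.hom]

/-- The closures of the sets of bounded words are bounded. -/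
theorem exists_pts_subset_closure [GeometricallyConnected X.hom] (he : ∃ x : X.left, f.left.base x ∈
    Set.range (η[G] : 𝟙_ (Over (Spec (CommRingCat.of k))) ⟶ G).left.base) :
    ∃ N, ∀ m, pts f m ⊆ closure (pts f N) := by
  let K := AlgebraicClosure k
  let s : Spec (CommRingCat.of K) ⟶ Spec (CommRingCat.of k) :=
    Spec.map (CommRingCat.ofHom (algebraMap k K))
  haveI : JacobsonSpace ↥(pullback X.hom s) :=
    LocallyOfFiniteType.jacobsonSpace (Y := Spec _) (pullback.snd X.hom s)
  haveI := GrothLib.GrpSchField.isSeparated G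
  haveI : IsClosedImmersion (η[G] : 𝟙_ (Over (Spec (CommRingCat.of k))) ⟶ G).left := by
    haveI : IsClosedImmersion ((η[G] : 𝟙_ (Over (Spec (CommRingCat.of k))) ⟶ G).left ≫ G.hom) := by
      rw [Over.w]
      exact inferInstanceAs (IsClosedImmersion (𝟙 _))
    exact IsClosedImmersion.of_comp _ G.hom
  obtain ⟨x, hx⟩ := he
  obtain ⟨z, hz, -⟩ := Scheme.Pullback.exists_preimage_pullback (f := X.hom) (g := s) x
    (IsLocalRing.closedPoint K) (Subsingleton.elim (α := PrimeSpectrum k) _ _)
  obtain ⟨q, hq, hqc⟩ := nonempty_inter_closedPoints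
    (Z := (pullback.fst X.hom s ≫ f.left).base ⁻¹'
      Set.range (η[G] : 𝟙_ (Over (Spec (CommRingCat.of k))) ⟶ G).left.base)
    ⟨z, by
      rw [Set.mem_preimage, Scheme.Hom.comp_apply, hz]
      exact hx⟩
    ((Scheme.Hom.isClosedEmbedding _).isClosed_range.preimage (Scheme.Hom.continuous _)).isLocallyClosed
  rw [← range_loc] at hqc
  obtain ⟨x₀, rfl⟩ := hqc
  have hx₀ : x₀ ≫ f = 1 := by
    have hr : Set.range (x₀ ≫ f).left.base ⊆
        Set.range (η[G] : 𝟙_ (Over (Spec (CommRingCat.of k))) ⟶ G).left.base := by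
      rintro _ ⟨t, rfl⟩
      rw [Subsingleton.elim (α := PrimeSpectrum K) t (IsLocalRing.closedPoint K), Over.comp_left,
        Scheme.Hom.comp_apply, ← fst_loc, ← Scheme.Hom.comp_apply]
      exact hq
    haveI : IsReduced (extPt s).left := inferInstanceAs (IsReduced (Spec (CommRingCat.of K)))
    obtain ⟨l, hl⟩ := RedSub.exists_lift (x₀ ≫ f).left
      (η[G] : 𝟙_ (Over (Spec (CommRingCat.of k))) ⟶ G).left hr
    have hl' : l = s := by
      have := congrArg (fun m => m ≫ G.hom) hl
      simp only [Category.assoc, Over.w] at this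
      simpa using this
    rw [Hom.one_def]
    refine Over.OverMorphism.ext ?_
    rw [← hl, hl']
    rfl
  obtain ⟨N, hN⟩ := exists_pts_dense s f x₀ hx₀
  refine ⟨N, fun m => (pts_subset_closure f s m).trans (closure_minimal ?_ isClosed_closure)⟩
  rintro _ ⟨u, hu, rfl⟩
  refine closure_mono ?_ (hN m u hu)
  rintro _ ⟨v, hv, rfl⟩
  exact pts_of_words f s hv

/-- The generated subgroup, once the closures of the sets of words are bounded. -/
theorem exists_range_eq_of_bound [GeometricallyReduced X.hom] (hb : ∃ N, ∀ m, pts f m ⊆ closure (pts f N))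
    (Γ : Over (Spec (CommRingCat.of k))) [GrpObj Γ] (i : Γ ⟶ G) [IsMonHom i] [IsClosedImmersion i.left]
    (hf : ∃ f' : X ⟶ Γ, f' ≫ i = f)
    (hmin : ∀ (Γ' : Over (Spec (CommRingCat.of k))) (_ : GrpObj Γ') (i' : Γ' ⟶ G), IsMonHom i' →
      IsClosedImmersion i'.left → (∃ f'' : X ⟶ Γ', f'' ≫ i' = f) → ∃ j : Γ ⟶ Γ', j ≫ i' = i) :
    ∃ N : ℕ, Set.range i.left.base = pts f N := by
  classical
  obtain ⟨hr, -⟩ := range_eq_and_geometricallyReduced (Gen := Single f)
    (fun _ _ h => by cases h; assumption) Γ i (fun _ _ h => by cases h; exact hf)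
    (fun Γ' h1 i' h2 h3 h4 => hmin Γ' h1 i' h2 h3 (h4 _ _ .mk))
  obtain ⟨N, hN⟩ := hb
  obtain ⟨f', hf'⟩ := hf
  -- words lift
  have hlift : ∀ (T : Over (Spec (CommRingCat.of k))) (l : List ((T ⟶ X) × Bool)),
      ∃ v : T ⟶ Γ, v ≫ i = lval f l := by
    intro T l
    refine ⟨lval f' l, ?_⟩
    induction l with
    | nil => simp [lval, MonObj.one_comp]
    | cons a l ih =>
      simp only [lval, List.map_cons, List.prod_cons, MonObj.mul_comp] at ih ⊢
      rw [ih]
      congr 1
      simp only [letter]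
      split_ifs <;> simp [GrpObj.inv_comp, hf']
  have hsub : ∀ m, pts f m ⊆ Set.range i.left.base := by
    rintro m _ ⟨T, p, l, -, rfl⟩
    obtain ⟨v, hv⟩ := hlift T l
    exact ⟨v.left.base p, by rw [← hv, Over.comp_left, Scheme.Hom.comp_apply]⟩
  have hdense : Set.range i.left.base ⊆ closure (pts f N) := by
    refine hr.le.trans (closure_minimal ?_ isClosed_closure)
    rintro _ ⟨W, w, hw, p, rfl⟩
    obtain ⟨n, hn⟩ := exists_list f hw
    obtain ⟨l, hl, hlv⟩ := hn W (𝟙 W)
    exact hN n ⟨W, p, l, hl, by rw [hlv, Category.id_comp]⟩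
  haveI : LocallyOfFiniteType Γ.hom := by rw [← Over.w i]; infer_instance
  haveI := GrothLib.GrpSchField.isSeparated Γ
  haveI : IsLocallyNoetherian Γ.left := LocallyOfFiniteType.isLocallyNoetherian (Y := Spec _) Γ.hom
  choose v hv using fun ε : List.Vector Bool N => hlift _ (word_lists f ε.1 _ (𝟙 (src X ε.1))).choose
  have hv' : ∀ ε, v ε ≫ i = word f ε.1 := fun ε => by
    rw [hv, (word_lists f ε.1 _ (𝟙 (src X ε.1))).choose_spec.2, Category.id_comp]
  let U : Set Γ.left := ⋃ ε : List.Vector Bool N, Set.range (v ε).left.base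
  have hUc : IsLocallyConstructible U := by
    have hc : ∀ ε, IsLocallyConstructible (Set.range (v ε).left.base) := fun ε => by
      haveI := (src_props (X := X) ε.1).1
      haveI := (src_props (X := X) ε.1).2
      haveI : QuasiCompact (v ε).left :=
        @QuasiCompact.of_comp _ _ _ (v ε).left Γ.hom (by rw [Over.w (v ε)]; infer_instance) _
      haveI : LocallyOfFiniteType (v ε).left :=
        @locallyOfFiniteType_of_comp _ _ _ (v ε).left Γ.hom (by rw [Over.w (v ε)]; infer_instance)
      haveI : LocallyOfFinitePresentation (v ε).left := inferInstance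
      exact Set.image_univ ▸ (v ε).left.isLocallyConstructible_image IsConstructible.univ.isLocallyConstructible
    exact IsLocallyConstructible.iUnion hc
  have hUd : Dense U := by
    rw [i.left.isClosedEmbedding.isInducing.dense_iff]
    intro y
    have : i.left.base '' U = pts f N := by
      rw [pts_eq_iUnion, Set.image_iUnion]
      refine Set.iUnion_congr fun ε => ?_
      rw [← Set.range_comp, ← hv' ε, Over.comp_left, Scheme.Hom.comp_base, TopCat.coe_comp]
    rw [this]
    exact hdense ⟨y, rfl⟩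
  haveI : Subsingleton (Spec (CommRingCat.of k)) := inferInstanceAs (Subsingleton (PrimeSpectrum k))
  refine ⟨N + N, le_antisymm ?_ (hsub _)⟩
  rintro _ ⟨γ₀, rfl⟩
  have hall : Γ.hom ⁻¹' {Γ.hom γ₀} = Set.univ := Set.eq_univ_of_forall fun _ => Subsingleton.elim _ _
  obtain ⟨z, hz1, hz2, hz3⟩ := GrothLib.SepAct.exists_mul_mem_of_dense_fibre Γ (interior U) (interior U)
    isOpen_interior γ₀ (by rw [hall, Set.inter_univ]; exact fun w _ => dense_interior hUc hUd w)
    (by rw [hall, Set.inter_univ]; exact fun w _ => dense_interior hUc hUd w)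
  obtain ⟨ε₂, p2, hp2⟩ := Set.mem_iUnion.1 (interior_subset hz2)
  obtain ⟨r, rfl⟩ := range_lift_snd Γ (v ε₂) z p2 hp2.symm
  obtain ⟨ε₁, p1, hp1⟩ := Set.mem_iUnion.1 (interior_subset hz1)
  obtain ⟨r', hr'⟩ := range_lift_fst (src X ε₂.1) (v ε₁) r p1 (by
    rw [hp1, ← Scheme.Hom.comp_apply (Γ ◁ v ε₂).left, ← Over.comp_left, whiskerLeft_fst])
  obtain ⟨l₁, hl₁, hlv₁⟩ := word_lists f ε₁.1 _ (fst (src X ε₁.1) (src X ε₂.1))
  obtain ⟨l₂, hl₂, hlv₂⟩ := word_lists f ε₂.1 _ (snd (src X ε₁.1) (src X ε₂.1))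
  refine ⟨_, r', l₁ ++ l₂, by simp [hl₁, hl₂, ε₁.2, ε₂.2], ?_⟩
  have hμ : μ[Γ] = fst Γ Γ * snd Γ Γ := by rw [Hom.mul_def, lift_fst_snd, Category.id_comp]
  have key : (v ε₁ ▷ src X ε₂.1) ≫ (Γ ◁ v ε₂) ≫ μ[Γ] ≫ i = lval f (l₁ ++ l₂) := by
    have : lval f (l₁ ++ l₂) = lval f l₁ * lval f l₂ := by simp [lval]
    rw [this, hlv₁, hlv₂, hμ, MonObj.mul_comp, MonObj.comp_mul, MonObj.comp_mul, whiskerLeft_fst_assoc,
      whiskerLeft_snd_assoc, whiskerRight_fst_assoc, whiskerRight_snd_assoc, hv', hv']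
  rw [← key, Over.comp_left, Over.comp_left, Over.comp_left, Scheme.Hom.comp_apply, Scheme.Hom.comp_apply,
    Scheme.Hom.comp_apply, hr']
  exact congrArg i.left hz3

/-- The generated subgroup is the set of words of some fixed length. -/
theorem exists_range_eq [GeometricallyReduced X.hom] [GeometricallyConnected X.hom]
    (he : ∃ x : X.left, f.left.base x ∈
      Set.range (η[G] : 𝟙_ (Over (Spec (CommRingCat.of k))) ⟶ G).left.base)
    (Γ : Over (Spec (CommRingCat.of k))) [GrpObj Γ] (i : Γ ⟶ G) [IsMonHom i] [IsClosedImmersion i.left]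
    (hf : ∃ f' : X ⟶ Γ, f' ≫ i = f)
    (hmin : ∀ (Γ' : Over (Spec (CommRingCat.of k))) (_ : GrpObj Γ') (i' : Γ' ⟶ G), IsMonHom i' →
      IsClosedImmersion i'.left → (∃ f'' : X ⟶ Γ', f'' ≫ i' = f) → ∃ j : Γ ⟶ Γ', j ≫ i' = i) :
    ∃ N : ℕ, Set.range i.left.base = pts f N :=
  exists_range_eq_of_bound f (exists_pts_subset_closure f he) Γ i hf hmin

end GrothLib.GenWords19
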