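import Groth.Agent.Lib.GenWords19.Abstract
import Groth.Agent.Lib.GrpSchField.Field
import Mathlib.AlgebraicGeometry.AlgClosed.Basic
import Mathlib.AlgebraicGeometry.Geometrically.Connected
import Mathlib.RingTheory.Ideal.KrullsHeightTheorem
import Mathlib.AlgebraicGeometry.Stalk

/-!
# Bounded words in the points over an algebraically closed field have stable closure
-/

set_option autoImplicit false
set_option backward.isDefEq.respectTransparency false
set_option linter.style.haveILetI false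

universe u

open CategoryTheory CategoryTheory.Limits MonoidalCategory CartesianMonoidalCategory MonObj GrpObj
open AlgebraicGeometry Topology

noncomputable section

namespace GrothLib.GenWords19

variable {k K : Type u} [Field k] [Field K] (s : Spec (CommRingCat.of K) ⟶ Spec (CommRingCat.of k))

/-- The spectrum of the extension, as an object over the base field. -/
abbrev extPt : Over (Spec (CommRingCat.of k)) := Over.mk s

/-- The point of the base change given by a point over the extension. -/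
def loc {Y : Over (Spec (CommRingCat.of k))} (x : extPt s ⟶ Y) : ↥(pullback Y.hom s) :=
  (pullback.lift x.left (𝟙 _) (by rw [Category.id_comp]; exact Over.w x)).base (IsLocalRing.closedPoint K)

theorem fst_loc {Y : Over (Spec (CommRingCat.of k))} (x : extPt s ⟶ Y) :
    (pullback.fst Y.hom s).base (loc s x) = x.left.base (IsLocalRing.closedPoint K) := by
  rw [loc, ← Scheme.Hom.comp_apply, pullback.lift_fst]

theorem loc_comp {Y Z : Over (Spec (CommRingCat.of k))} (φ : Y ⟶ Z) (x : extPt s ⟶ Y) :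
    loc s (x ≫ φ) = (pullback.map Y.hom s Z.hom s φ.left (𝟙 _) (𝟙 _)
      (by rw [Category.comp_id]; exact (Over.w φ).symm) (by simp)).base (loc s x) := by
  simp only [loc]
  rw [← Scheme.Hom.comp_apply]
  refine congrArg (fun m : Spec (CommRingCat.of K) ⟶ pullback Z.hom s => m.base (IsLocalRing.closedPoint K)) ?_
  apply pullback.hom_ext <;> simp [pullback.map]

variable {G : Over (Spec (CommRingCat.of k))} [GrpObj G]

/-- Translation by a point over the extension is continuous on the base change. -/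
theorem exists_translate (g : extPt s ⟶ G) :
    (∃ φ : ↥(pullback G.hom s) → ↥(pullback G.hom s), Continuous φ ∧ ∀ h, φ (loc s h) = loc s (g * h)) ∧
      ∃ φ : ↥(pullback G.hom s) → ↥(pullback G.hom s), Continuous φ ∧ ∀ h, φ (loc s h) = loc s (h * g) := by
  let T : Over (Spec (CommRingCat.of k)) := Over.mk (pullback.fst G.hom s ≫ G.hom)
  let a : T ⟶ G := Over.homMk (pullback.fst G.hom s)
  let q : T ⟶ extPt s := Over.homMk (pullback.snd G.hom s) pullback.condition.symm
  have key : ∀ M : T ⟶ G, ∃ φ : ↥(pullback G.hom s) → ↥(pullback G.hom s), Continuous φ ∧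
      ∀ h : extPt s ⟶ G, ∀ t : extPt s ⟶ T, t ≫ a = h → t ≫ q = 𝟙 _ → φ (loc s h) = loc s (t ≫ M) := by
    intro M
    let ψ : pullback G.hom s ⟶ pullback G.hom s := pullback.lift M.left (pullback.snd _ _)
      (by rw [← pullback.condition]; exact Over.w M)
    refine ⟨ψ.base, ψ.continuous, fun h t ht1 ht2 => ?_⟩
    simp only [loc]
    rw [← Scheme.Hom.comp_apply]
    refine congrArg (fun m : Spec (CommRingCat.of K) ⟶ pullback G.hom s => m.base (IsLocalRing.closedPoint K)) ?_
    have e1 : t.left ≫ pullback.fst G.hom s = h.left := congrArg CommaMorphism.left ht1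
    have e2 : t.left ≫ pullback.snd G.hom s = 𝟙 _ := congrArg CommaMorphism.left ht2
    have e : pullback.lift h.left (𝟙 _) (by rw [Category.id_comp]; exact Over.w h) = t.left := by
      apply pullback.hom_ext
      · rw [pullback.lift_fst]; exact e1.symm
      · rw [pullback.lift_snd]; exact e2.symm
    apply pullback.hom_ext
    · rw [Category.assoc, pullback.lift_fst, pullback.lift_fst, e, Over.comp_left]
    · rw [Category.assoc, pullback.lift_snd, pullback.lift_snd, pullback.lift_snd]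
  have hsec : ∀ h : extPt s ⟶ G, ∃ t : extPt s ⟶ T, t ≫ a = h ∧ t ≫ q = 𝟙 _ := fun h =>
    ⟨Over.homMk (pullback.lift h.left (𝟙 _) (by rw [Category.id_comp]; exact Over.w h))
      (by show _ ≫ pullback.fst G.hom s ≫ G.hom = s; rw [pullback.lift_fst_assoc]; exact Over.w h),
      Over.OverMorphism.ext (pullback.lift_fst _ _ _), Over.OverMorphism.ext (pullback.lift_snd _ _ _)⟩
  obtain ⟨φ, hφc, hφ⟩ := key ((q ≫ g) * a)
  obtain ⟨φ', hφc', hφ'⟩ := key (a * (q ≫ g))
  refine ⟨⟨φ, hφc, fun h => ?_⟩, ⟨φ', hφc', fun h => ?_⟩⟩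
  · obtain ⟨t, h1, h2⟩ := hsec h
    rw [hφ h t h1 h2, MonObj.comp_mul, ← Category.assoc t q, h2, Category.id_comp, h1]
  · obtain ⟨t, h1, h2⟩ := hsec h
    rw [hφ' h t h1 h2, MonObj.comp_mul, ← Category.assoc t q, h2, Category.id_comp, h1]

variable [IsAlgClosed K]

theorem range_loc (Y : Over (Spec (CommRingCat.of k))) [LocallyOfFiniteType Y.hom] :
    Set.range (loc s (Y := Y)) = closedPoints ↥(pullback Y.hom s) := by
  ext z
  constructor
  · rintro ⟨x, rfl⟩
    exact ((pointEquivClosedPoint (pullback.snd Y.hom s)) ⟨_, pullback.lift_snd _ _ _⟩).2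
  · intro hz
    let σ := (pointEquivClosedPoint (pullback.snd Y.hom s)).symm ⟨z, hz⟩
    let x : extPt s ⟶ Y := Over.homMk (σ.1 ≫ pullback.fst Y.hom s)
      (by show (σ.1 ≫ _) ≫ Y.hom = s; rw [Category.assoc, pullback.condition, reassoc_of% σ.2])
    refine ⟨x, ?_⟩
    have e : pullback.lift x.left (𝟙 _) (by rw [Category.id_comp]; exact Over.w x) = σ.1 := by
      apply pullback.hom_ext
      · rw [pullback.lift_fst]; rfl
      · rw [pullback.lift_snd]; exact σ.2.symm
    show (pullback.lift x.left (𝟙 _) _).base _ = z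
    rw [e]
    exact congrArg Subtype.val ((pointEquivClosedPoint (pullback.snd Y.hom s)).apply_symm_apply ⟨z, hz⟩)

theorem loc_injective (Y : Over (Spec (CommRingCat.of k))) [LocallyOfFiniteType Y.hom] :
    Function.Injective (loc s (Y := Y)) := by
  intro x y h
  have := (pointEquivClosedPoint (pullback.snd Y.hom s)).injective
    (a₁ := ⟨pullback.lift x.left (𝟙 _) (by rw [Category.id_comp]; exact Over.w x), pullback.lift_snd _ _ _⟩)
    (a₂ := ⟨pullback.lift y.left (𝟙 _) (by rw [Category.id_comp]; exact Over.w y), pullback.lift_snd _ _ _⟩)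
    (Subtype.ext h)
  refine Over.OverMorphism.ext ?_
  simpa using congrArg (fun m => m ≫ pullback.fst Y.hom s) (congrArg Subtype.val this)

omit [IsAlgClosed K] in
/-- Bounded words in a family covered by irreducible pieces linked to the unit have stable closure. -/
theorem exists_dense_of_pieces [LocallyOfFiniteType G.hom] (S : Set (extPt s ⟶ G)) {κ : Type*}
    (pieces : κ → Set (extPt s ⟶ G)) (hirr : ∀ i, IsPreirreducible (loc s '' pieces i))
    (hsub : ∀ i, pieces i ⊆ S) (hcov : ∀ u ∈ S, ∃ i, u ∈ pieces i) (i0 : κ) (h1 : (1 : extPt s ⟶ G) ∈ pieces i0)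
    (hconn : ∀ T : κ → Prop, T i0 → (∀ i j, T i → (pieces i ∩ pieces j).Nonempty → T j) → ∀ i, T i) :
    ∃ N, ∀ m, ∀ u ∈ words S m,
      (u.left.base (IsLocalRing.closedPoint K)) ∈ closure
        ((fun v : extPt s ⟶ G => v.left.base (IsLocalRing.closedPoint K)) '' words S N) := by
  haveI : IsLocallyNoetherian (pullback G.hom s) :=
    LocallyOfFiniteType.isLocallyNoetherian (Y := Spec _) (pullback.snd G.hom s)
  letI : TopologicalSpace (extPt s ⟶ G) := TopologicalSpace.induced (loc s) inferInstance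
  have hiG : IsInducing (loc s (Y := G)) := ⟨rfl⟩
  have hl : ∀ g : extPt s ⟶ G, Continuous fun h => g * h := fun g => by
    obtain ⟨⟨φ, hc, hφ⟩, -⟩ := exists_translate s g
    rw [hiG.continuous_iff]
    have e : loc s ∘ (fun h => g * h) = φ ∘ loc s := funext fun h => (hφ h).symm
    rw [e]
    exact hc.comp hiG.continuous
  have hr : ∀ g : extPt s ⟶ G, Continuous fun h => h * g := fun g => by
    obtain ⟨-, φ, hc, hφ⟩ := exists_translate s g
    rw [hiG.continuous_iff]
    have e : loc s ∘ (fun h => h * g) = φ ∘ loc s := funext fun h => (hφ h).symm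
    rw [e]
    exact hc.comp hiG.continuous
  have hpre : ∀ i, IsPreirreducible (pieces i) := by
    intro i U V hU hV ⟨x, hx, hxU⟩ ⟨y, hy, hyV⟩
    obtain ⟨U', hU', rfl⟩ := hiG.isOpen_iff.mp hU
    obtain ⟨V', hV', rfl⟩ := hiG.isOpen_iff.mp hV
    obtain ⟨_, ⟨z, hz, rfl⟩, hzU, hzV⟩ := hirr i U' V' hU' hV' ⟨_, ⟨x, hx, rfl⟩, hxU⟩ ⟨_, ⟨y, hy, rfl⟩, hyV⟩
    exact ⟨z, hz, hzU, hzV⟩
  have hmax : ∀ 𝓑 : Set (Set (extPt s ⟶ G)), 𝓑.Nonempty →
      (∀ B ∈ 𝓑, IsPreirreducible B ∧ (1 : extPt s ⟶ G) ∈ closure B) →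
      ∃ B ∈ 𝓑, ∀ B' ∈ 𝓑, closure B ⊆ closure B' → closure B' ⊆ closure B := by
    intro 𝓑 hne h𝓑
    let e : ↥(pullback G.hom s) := loc s (1 : extPt s ⟶ G)
    have hgen : ∀ B : 𝓑, ∃ q : Spec ((pullback G.hom s).presheaf.stalk e),
        closure {((pullback G.hom s).fromSpecStalk e).base q} = closure (loc s '' B.1) := fun B => by
      obtain ⟨hB, hB1⟩ := h𝓑 B.1 B.2
      have hmem : e ∈ closure (loc s '' B.1) := map_mem_closure (f := loc s) hiG.continuous hB1 fun b hb => ⟨b, hb, rfl⟩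
      have hirr : IsIrreducible (closure (loc s '' B.1)) :=
        ⟨⟨e, hmem⟩, (hB.image _ hiG.continuous.continuousOn).closure⟩
      have hcl : closure {hirr.genericPoint} = closure (loc s '' B.1) := by
        rw [hirr.genericPoint_closure_eq, closure_closure]
      obtain ⟨q, hq⟩ : hirr.genericPoint ∈ Set.range ((pullback G.hom s).fromSpecStalk e).base := by
        rw [Scheme.range_fromSpecStalk]
        show hirr.genericPoint ⤳ e
        rwa [specializes_iff_mem_closure, hcl]
      exact ⟨q, by rw [hq]; exact hcl⟩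
    choose q hq using hgen
    haveI : Nonempty 𝓑 := hne.to_subtype
    haveI : IsNoetherianRing ((pullback G.hom s).presheaf.stalk e) := inferInstance
    obtain ⟨B₀, hB₀⟩ : ∃ B₀ : 𝓑, ∀ B : 𝓑, (q B₀).asIdeal.height ≤ (q B).asIdeal.height := by
      obtain ⟨_, ⟨B₀, rfl⟩, hmin⟩ := wellFounded_lt.has_min
        (Set.range fun B : 𝓑 => (q B).asIdeal.height) (Set.range_nonempty _)
      exact ⟨B₀, fun B => not_lt.1 (hmin _ ⟨B, rfl⟩)⟩
    refine ⟨B₀.1, B₀.2, fun B' hB' hsub => ?_⟩
    have hle : (q ⟨B', hB'⟩).asIdeal ≤ (q B₀).asIdeal := by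
      refine (PrimeSpectrum.le_iff_specializes (q ⟨B', hB'⟩) (q B₀)).mpr
        (((pullback G.hom s).fromSpecStalk e).isEmbedding.isInducing.specializes_iff.mp ?_)
      rw [specializes_iff_mem_closure, hq]
      have h1 : closure (loc s '' B₀.1) ⊆ closure (loc s '' B') := by
        refine closure_minimal ?_ isClosed_closure
        rintro _ ⟨b, hb, rfl⟩
        exact map_mem_closure hiG.continuous (hsub (subset_closure hb)) fun b hb => ⟨b, hb, rfl⟩
      exact h1 (hq B₀ ▸ subset_closure rfl)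
    have heq : q ⟨B', hB'⟩ = q B₀ := by
      by_contra hne'
      haveI := (q ⟨B', hB'⟩).2
      haveI := (q B₀).2
      have := Ideal.height_strict_mono_of_isPrime_of_isPrime
        (lt_of_le_of_ne hle fun h => hne' (PrimeSpectrum.ext h))
      exact (not_lt.mpr (hB₀ ⟨B', hB'⟩)) this
    rw [hiG.closure_eq_preimage_closure_image, hiG.closure_eq_preimage_closure_image]
    refine Set.preimage_mono ?_
    rw [← hq ⟨B', hB'⟩, ← hq B₀, heq]
  obtain ⟨N, hN⟩ := exists_words_dense hl hr S pieces hpre hsub hcov i0 h1 hconn hmax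
  refine ⟨N, fun m u hu => ?_⟩
  have hc : Continuous fun v : extPt s ⟶ G => v.left.base (IsLocalRing.closedPoint K) := by
    simp only [← fst_loc]
    exact (pullback.fst G.hom s).continuous.comp hiG.continuous
  exact map_mem_closure (f := fun v : extPt s ⟶ G => v.left.base (IsLocalRing.closedPoint K)) hc (hN m hu) fun v hv => ⟨v, hv, rfl⟩


variable {X : Over (Spec (CommRingCat.of k))}

/-- The closures of the sets of bounded words in the values at points over the extension are bounded. -/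
theorem exists_pts_dense [LocallyOfFiniteType G.hom] [LocallyOfFiniteType X.hom] [QuasiCompact X.hom]
    [GeometricallyConnected X.hom] (f : X ⟶ G) (x₀ : extPt s ⟶ X) (hx₀ : x₀ ≫ f = 1) :
    ∃ N, ∀ m, ∀ u ∈ words (Set.range fun x : extPt s ⟶ X => x ≫ f) m,
      (u.left.base (IsLocalRing.closedPoint K)) ∈ closure
        ((fun v : extPt s ⟶ G => v.left.base (IsLocalRing.closedPoint K)) ''
          words (Set.range fun x : extPt s ⟶ X => x ≫ f) N) := by
  haveI : JacobsonSpace ↥(pullback X.hom s) :=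
    LocallyOfFiniteType.jacobsonSpace (Y := Spec _) (pullback.snd X.hom s)
  haveI : IsLocallyNoetherian (pullback X.hom s) :=
    LocallyOfFiniteType.isLocallyNoetherian (Y := Spec _) (pullback.snd X.hom s)
  haveI : CompactSpace ↥(pullback X.hom s) :=
    QuasiCompact.compactSpace_of_compactSpace (pullback.snd X.hom s)
  haveI : AlgebraicGeometry.IsNoetherian (pullback X.hom s) := {}
  haveI : ConnectedSpace ↥(pullback X.hom s) :=
    GeometricallyConnected.geometrically_connectedSpace (f := X.hom) s (pullback.fst _ _) (pullback.snd _ _)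
      (IsPullback.of_hasPullback _ _)
  letI : TopologicalSpace (extPt s ⟶ G) := TopologicalSpace.induced (loc s) inferInstance
  letI : TopologicalSpace (extPt s ⟶ X) := TopologicalSpace.induced (loc s) inferInstance
  have hiG : IsInducing (loc s (Y := G)) := ⟨rfl⟩
  have hiX : IsInducing (loc s (Y := X)) := ⟨rfl⟩
  have hcf : Continuous fun x : extPt s ⟶ X => x ≫ f := by
    rw [hiG.continuous_iff]
    have e : loc s ∘ (fun x : extPt s ⟶ X => x ≫ f) = _ ∘ loc s := funext (loc_comp s f)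
    rw [e]
    exact (Scheme.Hom.continuous _).comp hiX.continuous
  let C := irreducibleComponents ↥(pullback X.hom s)
  have hpre : ∀ Z : C, IsPreirreducible (loc s (Y := X) ⁻¹' Z.1) := by
    intro Z U V hU hV ⟨a, haZ, haU⟩ ⟨b, hbZ, hbV⟩
    obtain ⟨U', hU', rfl⟩ := hiX.isOpen_iff.mp hU
    obtain ⟨V', hV', rfl⟩ := hiX.isOpen_iff.mp hV
    obtain ⟨z, hz⟩ := Z.2.1.2 U' V' hU' hV' ⟨_, haZ, haU⟩ ⟨_, hbZ, hbV⟩
    obtain ⟨w, hw, hwc⟩ := nonempty_inter_closedPoints (Z := Z.1 ∩ (U' ∩ V')) ⟨z, hz⟩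
      ((isClosed_of_mem_irreducibleComponents Z.1 Z.2).isLocallyClosed.inter (hU'.inter hV').isLocallyClosed)
    rw [← range_loc] at hwc
    obtain ⟨x, rfl⟩ := hwc
    exact ⟨x, hw.1, hw.2⟩
  have hfin : C.Finite := TopologicalSpace.NoetherianSpace.finite_irreducibleComponents
  obtain ⟨Z₀, hZ₀, hxZ₀⟩ : ∃ Z ∈ C, loc s x₀ ∈ Z :=
    ⟨_, irreducibleComponent_mem_irreducibleComponents _, mem_irreducibleComponent⟩
  have hconn : ∀ T : C → Prop, T ⟨Z₀, hZ₀⟩ → (∀ Z Z' : C, T Z →
      ((fun x : extPt s ⟶ X => x ≫ f) '' (loc s ⁻¹' Z.1) ∩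
        (fun x : extPt s ⟶ X => x ≫ f) '' (loc s ⁻¹' Z'.1)).Nonempty → T Z') → ∀ Z, T Z := by
    intro T hT0 hT Z'
    haveI : Finite C := hfin.to_subtype
    have hclosed : ∀ Q : C → Prop, IsClosed (⋃ Z : {Z : C // Q Z}, Z.1.1) := fun Q =>
      isClosed_iUnion_of_finite fun Z => isClosed_of_mem_irreducibleComponents _ Z.1.2
    by_contra hnot
    obtain ⟨p, -, hp1, hp2⟩ := isPreconnected_closed_iff.1 isPreconnected_univ
      (⋃ Z : {Z : C // T Z}, Z.1.1) (⋃ Z : {Z : C // ¬T Z}, Z.1.1) (hclosed T) (hclosed fun Z => ¬T Z)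
      (fun p _ => by
        by_cases h : T ⟨_, irreducibleComponent_mem_irreducibleComponents p⟩
        · exact Or.inl (Set.mem_iUnion.2 ⟨⟨_, h⟩, mem_irreducibleComponent⟩)
        · exact Or.inr (Set.mem_iUnion.2 ⟨⟨_, h⟩, mem_irreducibleComponent⟩))
      ⟨loc s x₀, trivial, Set.mem_iUnion.2 ⟨⟨⟨Z₀, hZ₀⟩, hT0⟩, hxZ₀⟩⟩
      (let ⟨p, hp⟩ := Z'.2.1.nonempty; ⟨p, trivial, Set.mem_iUnion.2 ⟨⟨Z', hnot⟩, hp⟩⟩)
    obtain ⟨⟨Z₁, h1⟩, hp1⟩ := Set.mem_iUnion.1 hp1
    obtain ⟨⟨Z₂, h2⟩, hp2⟩ := Set.mem_iUnion.1 hp2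
    obtain ⟨q, hq, hqc⟩ := nonempty_inter_closedPoints (Z := Z₁.1 ∩ Z₂.1) ⟨p, hp1, hp2⟩
      ((isClosed_of_mem_irreducibleComponents _ Z₁.2).inter
        (isClosed_of_mem_irreducibleComponents _ Z₂.2)).isLocallyClosed
    rw [← range_loc] at hqc
    obtain ⟨x, rfl⟩ := hqc
    exact h2 (hT Z₁ Z₂ h1 ⟨x ≫ f, ⟨x, hq.1, rfl⟩, ⟨x, hq.2, rfl⟩⟩)
  obtain ⟨N, hN⟩ := exists_dense_of_pieces s (Set.range fun x : extPt s ⟶ X => x ≫ f)
    (fun Z : C => (fun x : extPt s ⟶ X => x ≫ f) '' (loc s ⁻¹' Z.1))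
    (fun Z => ((hpre Z).image _ hcf.continuousOn).image _ hiG.continuous.continuousOn) (fun Z => Set.image_subset_range _ _)
    (fun u ⟨x, hx⟩ => ⟨⟨_, irreducibleComponent_mem_irreducibleComponents (loc s x)⟩, x, mem_irreducibleComponent, hx⟩)
    ⟨Z₀, hZ₀⟩ ⟨x₀, hxZ₀, hx₀⟩ hconn
  exact ⟨N, hN⟩

end GrothLib.GenWords19
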